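import Cfsg.Agent.Lib.Fusion.Alt.Strong

/-!
# The monomial group modulo its `p`-elements
-/

set_option autoImplicit false

open Equiv

namespace CfsgLib.Fusion.Alt

variable {B : Type*} [Fintype B] [DecidableEq B] {p r : ℕ} [Fact p.Prime]

/-- The subgroup generated by even monomial elements of order dividing `p`. -/
def monoGen (B : Type*) [Fintype B] [DecidableEq B] (p r : ℕ) [Fact p.Prime] :
    Subgroup (Perm (Pts B p r)) :=
  Subgroup.closure {g | Perm.sign g = 1 ∧ g ^ p = 1 ∧ ∃ τ u f, g = mono τ u f}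

theorem monoGen_conj (τ : Perm B) (u : B → (ZMod p)ˣ) (f : B → ZMod p)
    {x : Perm (Pts B p r)} (hx : x ∈ monoGen B p r) :
    mono τ u f * x * (mono τ u f)⁻¹ ∈ monoGen B p r := by
  have hle : monoGen B p r ≤ (monoGen B p r).comap (MulAut.conj (mono τ u f)).toMonoidHom := by
    refine (Subgroup.closure_le _).2 ?_
    rintro g ⟨hs, hp, τ', u', f', rfl⟩
    refine Subgroup.subset_closure ⟨?_, ?_, ?_⟩
    · show Perm.sign (mono τ u f * mono τ' u' f' * (mono τ u f)⁻¹) = 1
      rw [map_mul, map_mul, map_inv, hs, mul_one, mul_inv_cancel]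
    · show (mono τ u f * mono τ' u' f' * (mono τ u f)⁻¹) ^ p = 1
      rw [conj_pow, hp, mul_one, mul_inv_cancel]
    · show ∃ a b c, mono τ u f * mono τ' u' f' * (mono τ u f)⁻¹ = mono a b c
      rw [mono_inv, mono_mul, mono_mul]
      exact ⟨_, _, _, rfl⟩
  exact hle hx

theorem shift_mem_monoGen {f : B → ZMod p} (hf : Perm.sign (shift (r := r) f) = 1) :
    shift f ∈ monoGen B p r :=
  Subgroup.subset_closure ⟨hf, shift_pow_prime f, 1, 1, f, rfl⟩

theorem blk_mem_monoGen_of_pow {τ : Perm B} (hτ : τ ^ p = 1)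
    (hs : Perm.sign (blk (p := p) (r := r) τ) = 1) : blk τ ∈ monoGen B p r :=
  Subgroup.subset_closure ⟨hs, by rw [blk_pow, hτ, blk_one], τ, 1, 0, rfl⟩

theorem blk_mem_monoGen (hBp : p ≠ 2 → p ≤ Fintype.card B) (τ : Perm B)
    (hτ : p ≠ 2 → Perm.sign τ = 1) : blk τ ∈ monoGen B p r := by
  classical
  have hpr := (Fact.out : p.Prime)
  set H := (monoGen B p r).comap (blkHom (p := p) (r := r))
  show τ ∈ H
  rcases eq_or_ne p 2 with hp | hp
  · have hle : (⊤ : Subgroup (Perm B)) ≤ H := by
      rw [← Perm.closure_isSwap, Subgroup.closure_le]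
      rintro σ ⟨a, b, -, rfl⟩
      refine blk_mem_monoGen_of_pow ?_ (sign_mono_two hp _)
      subst hp
      rw [pow_two, Equiv.swap_mul_self]
    exact hle (Subgroup.mem_top τ)
  have hodd := hpr.odd_of_ne_two hp
  have hgen : ∀ σ : Perm B, σ ^ p = 1 → σ ∈ H := fun σ hσ => by
    refine blk_mem_monoGen_of_pow hσ ?_
    rw [sign_blk, ← map_pow, hσ, map_one]
  obtain ⟨e⟩ := Function.Embedding.nonempty_of_card_le (α := ZMod p) (β := B)
    (by rw [ZMod.card]; exact hBp hp)
  set c := Perm.viaEmbeddingHom e (Equiv.addRight (1 : ZMod p))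
  have hc : ∀ x, c (e x) = e (x + 1) := fun x => by
    rw [show c = Perm.viaEmbedding (Equiv.addRight (1 : ZMod p)) e from rfl,
      Perm.viaEmbedding_apply]
    rfl
  have hadd : ∀ m : ℕ, (Equiv.addRight (1 : ZMod p)) ^ m = Equiv.addRight (m : ZMod p) := by
    intro m
    induction m with
    | zero => refine Equiv.ext fun x => ?_; simp
    | succ m ih =>
      refine Equiv.ext fun x => ?_
      rw [pow_succ, ih, Perm.mul_apply]
      simp [add_assoc, add_comm (1 : ZMod p)]
  have hcp : c ^ p = 1 := by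
    rw [← map_pow, hadd, ZMod.natCast_self]
    rw [show Equiv.addRight (0 : ZMod p) = 1 from Equiv.ext fun x => by simp, map_one]
  have h2 : (1 + 1 : ZMod p) ≠ 0 := fun h =>
    hp ((Nat.prime_dvd_prime_iff_eq hpr Nat.prime_two).1
      ((ZMod.natCast_eq_zero_iff 2 p).1 (by rw [Nat.cast_ofNat, ← h]; norm_num)))
  have h01 : e 0 ≠ e 1 := fun h => zero_ne_one (e.injective h)
  have h02 : e 0 ≠ e (1 + 1) := fun h => h2 (e.injective h).symm
  have h12 : e 1 ≠ e (1 + 1) := fun h => one_ne_zero (left_eq_add.1 (e.injective h))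
  set s := Equiv.swap (e 0) (e 1)
  have h3 : c * (s * c⁻¹ * s) = Equiv.swap (e 1) (e (1 + 1)) * s := by
    rw [← hc, show e 1 = c (e 0) by rw [hc, zero_add], Equiv.swap_apply_apply,
      show Equiv.swap (e 0) (c (e 0)) = s by rw [hc, zero_add]]
    group
  have hthree : (c * (s * c⁻¹ * s)).IsThreeCycle := by
    rw [h3, show s = Equiv.swap (e 1) (e 0) from Equiv.swap_comm _ _]
    exact Perm.isThreeCycle_swap_mul_swap_same h12 h01.symm h02.symm
  have hle : alternatingGroup B ≤ H := by
    rw [← Perm.closure_three_cycles_eq_alternating, Subgroup.closure_le]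
    intro σ hσ
    obtain ⟨w, rfl⟩ := _root_.isConj_iff.1
      ((Perm.isConj_iff_cycleType_eq).2 (hthree.trans hσ.symm) : IsConj _ σ)
    have e1 : w * (c * (s * c⁻¹ * s)) * w⁻¹ = (w * c * w⁻¹) * (w * (s * c⁻¹ * s) * w⁻¹) := by group
    rw [SetLike.mem_coe, e1]
    refine H.mul_mem (hgen _ (by rw [conj_pow, hcp, mul_one, mul_inv_cancel])) (hgen _ ?_)
    rw [conj_pow]
    have : (s * c⁻¹ * s⁻¹) ^ p = 1 := by rw [conj_pow, inv_pow, hcp, inv_one, mul_one, mul_inv_cancel]
    rw [Equiv.swap_inv] at this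
    rw [this, mul_one, mul_inv_cancel]
  exact hle (Perm.mem_alternatingGroup.2 (hτ hp))

theorem scale_pair_mem (hB : 3 ≤ Fintype.card B) (hBp : p ≠ 2 → p ≤ Fintype.card B) (hp : p ≠ 2)
    {a b : B} (hab : a ≠ b) (t : (ZMod p)ˣ) :
    scale (r := r) (Pi.mulSingle a t * Pi.mulSingle b t⁻¹) ∈ monoGen B p r := by
  obtain ⟨c, hca, hcb⟩ := exists_other hB a b
  set v : B → (ZMod p)ˣ := Pi.mulSingle a (t * t) * Pi.mulSingle b t * Pi.mulSingle c t
  set σ := Equiv.swap a b * Equiv.swap b c
  have hσs : Perm.sign σ = 1 := by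
    rw [map_mul, Perm.sign_swap hab, Perm.sign_swap hcb.symm, Int.units_mul_self]
  have hblk : blk σ ∈ monoGen B p r := blk_mem_monoGen hBp σ fun _ => hσs
  have h1 := (monoGen B p r).mul_mem (monoGen_conj 1 v 0 hblk) ((monoGen B p r).inv_mem hblk)
  have he : mono 1 v 0 * blk σ * (mono 1 v 0)⁻¹ * (blk σ)⁻¹ =
      scale (r := r) (Pi.mulSingle a t * Pi.mulSingle b t⁻¹) := by
    simp only [blk, scale, mono_inv, mono_mul]
    refine mono_congr (by group) (fun i => ?_) (fun i => ?_)
    have ha : σ⁻¹ a = c := by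
      rw [Perm.inv_eq_iff_eq, Perm.mul_apply, Equiv.swap_apply_right, Equiv.swap_apply_right]
    have hb : σ⁻¹ b = a := by
      rw [Perm.inv_eq_iff_eq, Perm.mul_apply, Equiv.swap_apply_of_ne_of_ne hab hca.symm,
        Equiv.swap_apply_left]
    have hc : σ⁻¹ c = b := by
      rw [Perm.inv_eq_iff_eq, Perm.mul_apply, Equiv.swap_apply_left,
        Equiv.swap_apply_of_ne_of_ne hca hcb]
    have happ : σ (σ⁻¹ i) = i := σ.apply_symm_apply i
    swap
    · simp only [Pi.zero_apply, mul_zero, neg_zero, add_zero]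
    simp only [inv_one, Perm.one_apply, Pi.one_apply, mul_one, happ, Pi.mul_apply]
    rcases eq_or_ne i a with rfl | hia
    · rw [ha]; simp [v, Pi.mulSingle_apply, hab, hca, hca.symm, hcb]
    · rcases eq_or_ne i b with rfl | hib
      · rw [hb]; simp [v, Pi.mulSingle_apply, hab, hab.symm, hca.symm, hcb.symm]
      · rcases eq_or_ne i c with rfl | hic
        · rw [hc]; simp [v, Pi.mulSingle_apply, hab.symm, hca, hcb, hcb.symm]
        · have : σ⁻¹ i = i := by
            rw [Perm.inv_eq_iff_eq, Perm.mul_apply, Equiv.swap_apply_of_ne_of_ne hib hic,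
              Equiv.swap_apply_of_ne_of_ne hia hib]
          rw [this]; simp [v, Pi.mulSingle_apply, hia, hib, hic]
  rwa [he] at h1

/-- Even monomial permutations of product one lie in the subgroup generated by `p`-elements. -/
theorem mono_mem_monoGen (hB : 3 ≤ Fintype.card B) (hBp : p ≠ 2 → p ≤ Fintype.card B)
    {τ : Perm B} {u : B → (ZMod p)ˣ} {d : B → ZMod p}
    (hs : Perm.sign (mono (r := r) τ u d) = 1) (hu : ∏ i, u i = 1) :
    mono τ u d ∈ monoGen B p r := by
  have hτ : p ≠ 2 → Perm.sign τ = 1 := fun hp => by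
    rw [sign_mono_odd hp, hu, map_one, mul_one] at hs
    exact hs
  have hblk : blk τ ∈ monoGen B p r := blk_mem_monoGen hBp τ hτ
  have hscale : scale u ∈ monoGen B p r := by
    rcases eq_or_ne p 2 with hp | hp
    · rw [show u = 1 from funext fun i => units_eq_one_of_two hp _,
        show scale (r := r) (1 : B → (ZMod p)ˣ) = 1 from mono_one]
      exact one_mem _
    · obtain ⟨a⟩ : Nonempty B := Fintype.card_pos_iff.1 (by omega)
      have hu' : u = ∏ i, Pi.mulSingle i (u i) * Pi.mulSingle a (u i)⁻¹ := by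
        rw [Finset.prod_mul_distrib, Finset.univ_prod_mulSingle]
        have : ∏ i, (Pi.mulSingle a (u i)⁻¹ : B → (ZMod p)ˣ) = 1 := by
          have h := map_prod (MonoidHom.mulSingle (fun _ : B => (ZMod p)ˣ) a) (fun i => (u i)⁻¹) Finset.univ
          rw [Finset.prod_inv_distrib, hu, inv_one, map_one] at h
          exact h.symm
        rw [this, mul_one]
      show u ∈ (monoGen B p r).comap (scaleHom (r := r))
      rw [hu']
      refine Subgroup.prod_mem _ fun i _ => ?_
      show scale (r := r) (Pi.mulSingle i (u i) * Pi.mulSingle a (u i)⁻¹) ∈ monoGen B p r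
      rcases eq_or_ne i a with rfl | hi
      · rw [← Pi.mulSingle_mul, mul_inv_cancel, Pi.mulSingle_one,
          show scale (r := r) (1 : B → (ZMod p)ˣ) = 1 from mono_one]
        exact one_mem _
      · exact scale_pair_mem hB hBp hp hi _
  have hscales : Perm.sign (scale (r := r) u) = 1 := by rw [sign_scale, hu, map_one]
  have hblks : Perm.sign (blk (p := p) (r := r) τ) = 1 := by
    rcases eq_or_ne p 2 with hp | hp
    · exact sign_mono_two hp τ
    · rw [sign_blk, hτ hp, one_pow]
  rw [mono_eq_prod] at hs ⊢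
  rw [map_mul, map_mul, hblks, hscales, one_mul, mul_one] at hs
  exact mul_mem (mul_mem hblk (shift_mem_monoGen hs)) hscale

end CfsgLib.Fusion.Alt
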