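import Cfsg.Agent.Lib.Fusion.Alt.Twist
import Cfsg.Agent.Lib.Fusion.CentricCriterion

/-!
# The fusion systems of alternating groups
-/

set_option autoImplicit false

open Equiv Cfsg

namespace CfsgLib.Fusion

theorem pGenNormalizer_map {G₀ G : Type*} [Group G₀] [Group G] (p : ℕ) (e : G₀ ≃* G)
    (R : Subgroup G₀) :
    (pGenNormalizer p R).map e.toMonoidHom ≤ pGenNormalizer p (R.map e.toMonoidHom) := by
  rw [pGenNormalizer, MonoidHom.map_closure]
  refine Subgroup.closure_mono ?_
  rintro _ ⟨g, ⟨hg, k, hk⟩, rfl⟩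
  exact ⟨Subgroup.le_normalizer_map _ ⟨g, hg, rfl⟩, k, by
    rw [show e.toMonoidHom g = e g from rfl, MulEquiv.orderOf_eq, hk]⟩

theorem groupFusion_isSimple_of_centrics_equiv {G₀ G : Type*} [Group G₀] [Group G] [Finite G₀]
    [Finite G] {p : ℕ} [Fact p.Prime] (e : G₀ ≃* G) (S₀ : Sylow p G₀) (S : Sylow p G)
    (hS : (S : Subgroup G) = (S₀ : Subgroup G₀).map e.toMonoidHom)
    (hne : (S₀ : Subgroup G₀) ≠ ⊥)
    (hT : ∀ T : Subgroup G₀, T ≤ (S₀ : Subgroup G₀) → T ≠ ⊥ →
      (∀ x ∈ T, ∀ c : G₀, c * x * c⁻¹ ∈ (S₀ : Subgroup G₀) → c * x * c⁻¹ ∈ T) →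
      T = (S₀ : Subgroup G₀))
    (Rs : Set (Subgroup G₀))
    (hRs : ∀ R ∈ Rs, R ≤ (S₀ : Subgroup G₀) ∧
      ∀ c ∈ Subgroup.centralizer (R : Set G₀), (∃ k : ℕ, c ^ p ^ k = 1) → c ∈ R)
    (hgen : Subgroup.normalizer ((S₀ : Subgroup G₀) : Set G₀) ≤ Subgroup.closure
      {n : G₀ | n ∈ Subgroup.normalizer ((S₀ : Subgroup G₀) : Set G₀) ∧
        ∃ R ∈ Rs, n ∈ pGenNormalizer p R}) :
    (groupFusionSystem (S : Subgroup G)).IsSimple p := by
  have hinv : ∀ H : Subgroup G, (H.comap e.toMonoidHom).map e.toMonoidHom = H := fun H =>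
    Subgroup.map_comap_eq_self_of_surjective e.surjective H
  have hcm : ∀ H : Subgroup G₀, (H.map e.toMonoidHom).comap e.toMonoidHom = H := fun H =>
    Subgroup.comap_map_eq_self_of_injective e.injective H
  refine groupFusion_isSimple_of_centrics S (fun h => hne ?_) (fun T hTS hTb hTc => ?_)
    ((fun R => R.map e.toMonoidHom) '' Rs) ?_ ?_
  · rw [← hcm (S₀ : Subgroup G₀), ← hS, h]
    exact (MonoidHom.ker_eq_bot_iff _).2 e.injective
  · have := hT (T.comap e.toMonoidHom) (by rw [← hcm (S₀ : Subgroup G₀), ← hS]; exact Subgroup.comap_mono hTS)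
      (fun h => hTb (by rw [← hinv T, h, Subgroup.map_bot]))
      fun x hx c hc => by
        show e (c * x * c⁻¹) ∈ T
        rw [map_mul, map_mul, map_inv]
        refine hTc (e x) hx (e c) ?_
        rw [← map_inv, ← map_mul, ← map_mul, hS]
        exact ⟨_, hc, rfl⟩
    rw [← hinv T, this, hS]
  · rintro _ ⟨R, hR, rfl⟩
    refine ⟨hS ▸ Subgroup.map_mono (hRs R hR).1, fun c hc ⟨k, hk⟩ => ?_⟩
    refine ⟨e.symm c, (hRs R hR).2 _ (Subgroup.mem_centralizer_iff.2 fun r hr => e.injective ?_)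
      ⟨k, e.injective ?_⟩, e.apply_symm_apply c⟩
    · rw [map_mul, map_mul, e.apply_symm_apply]
      exact Subgroup.mem_centralizer_iff.1 hc _ ⟨r, hr, rfl⟩
    · rw [map_pow, e.apply_symm_apply, hk, map_one]
  · have hN : (Subgroup.normalizer ((S₀ : Subgroup G₀) : Set G₀)).map e.toMonoidHom =
        Subgroup.normalizer ((S : Subgroup G) : Set G) := by
      rw [hS]
      exact Subgroup.map_equiv_normalizer_eq _ e
    rw [← hN]
    refine (Subgroup.map_mono hgen).trans ?_
    rw [MonoidHom.map_closure]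
    refine Subgroup.closure_mono ?_
    rintro _ ⟨n, ⟨hn, R, hR, hnR⟩, rfl⟩
    exact ⟨⟨n, hn, rfl⟩, _, ⟨R, hR, rfl⟩, pGenNormalizer_map p e R ⟨n, hnR, rfl⟩⟩

namespace Alt

variable {C : Type*} [Fintype C] [DecidableEq C] {p s r : ℕ} [Fact p.Prime]

/-- The data of the criterion for the alternating group on `Pts (Pts C p s) p r`. -/
theorem alt_data (hr : r ≤ 1) (hs : s < p) (hB : 3 ≤ Fintype.card (Pts C p s)) [Nonempty C]
    (Q : Sylow p (Perm C))
    (P : Sylow p (Perm (Pts C p s)))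
    (hP : (P : Subgroup (Perm (Pts C p s))) = wreath s p (Q : Subgroup (Perm C)))
    (hgen : (P : Subgroup (Perm (Pts C p s))) ≤
      Subgroup.closure {x | x ∈ (P : Subgroup (Perm (Pts C p s))) ∧ x ^ p = 1})
    {G : Type*} [Group G] [Finite G] (e : alternatingGroup (Pts (Pts C p s) p r) ≃* G)
    (S₀ : Sylow p (alternatingGroup (Pts (Pts C p s) p r)))
    (hS₀ : (S₀ : Subgroup (alternatingGroup (Pts (Pts C p s) p r))) =
      (wreath r p (P : Subgroup (Perm (Pts C p s)))).subgroupOf (alternatingGroup (Pts (Pts C p s) p r)))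
    (S : Sylow p G) (hS : (S : Subgroup G) = (S₀ : Subgroup _).map e.toMonoidHom) :
    (groupFusionSystem (S : Subgroup G)).IsSimple p := by
  classical
  have hpr := (Fact.out : p.Prime)
  obtain ⟨c₀⟩ := (inferInstance : Nonempty C)
  have hsep := separates_evenFam (B := Pts C p s) (p := p) (r := r) hB
  have hBp : p ≠ 2 → p ≤ Fintype.card (Pts C p s) := fun _ => by
    rw [Fintype.card_sum, Fintype.card_prod, ZMod.card]
    have : 1 ≤ Fintype.card C := Fintype.card_pos
    nlinarith
  have hsh : ∀ f, Perm.sign (shift (r := r) f) = 1 → ∃ h : shift (r := r) f ∈ (alternatingGroup (Pts (Pts C p s) p r)),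
      (⟨shift f, h⟩ : (alternatingGroup (Pts (Pts C p s) p r))) ∈ (S₀ : Subgroup (alternatingGroup (Pts (Pts C p s) p r))) := fun f hf =>
    ⟨Perm.mem_alternatingGroup.2 hf, by rw [hS₀]; exact shift_mem_wreath _ _⟩
  -- the orbit
  let O : Finset C := Finset.univ.filter fun c => c ∈ MulAction.orbit (Q : Subgroup (Perm C)) c₀
  have hO : ∀ σ ∈ (Q : Subgroup (Perm C)), ∀ c, σ c ∈ O ↔ c ∈ O := by
    intro σ hσ c
    simp only [O, Finset.mem_filter, Finset.mem_univ, true_and]
    refine ⟨fun h => ?_, fun h =>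
      MulAction.mem_orbit_of_mem_orbit (⟨σ, hσ⟩ : (Q : Subgroup (Perm C))) h⟩
    have := MulAction.mem_orbit_of_mem_orbit (⟨σ, hσ⟩⁻¹ : (Q : Subgroup (Perm C))) h
    simpa [Subgroup.smul_def] using this
  obtain ⟨j, hj⟩ := Q.isPGroup'.card_orbit c₀
  have hOcard : O.card = p ^ j := by
    rw [← hj, Nat.card_eq_fintype_card, Fintype.card_subtype]
  set E₀ : Subgroup (alternatingGroup (Pts (Pts C p s) p r)) := (wreath r p (⊥ : Subgroup (Perm (Pts C p s)))).subgroupOf (alternatingGroup (Pts (Pts C p s) p r))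
  set R₁ : Subgroup (alternatingGroup (Pts (Pts C p s) p r)) := (sqGroup p s r O).subgroupOf (alternatingGroup (Pts (Pts C p s) p r))
  have hSW : ∀ x : (alternatingGroup (Pts (Pts C p s) p r)), x ∈ (S₀ : Subgroup (alternatingGroup (Pts (Pts C p s) p r))) ↔ (x : Perm (Pts (Pts C p s) p r)) ∈ (wreath r p (P : Subgroup (Perm (Pts C p s)))) := fun x => by
    rw [hS₀]; exact Subgroup.mem_subgroupOf
  refine groupFusion_isSimple_of_centrics_equiv e S₀ S hS ?_ (fun T hTS hTb hTc => ?_)
    {R | R = E₀ ∨ (p ≠ 2 ∧ R = R₁)} ?_ ?_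
  · obtain ⟨f, hf, hfa⟩ := hsep.1 (.inl (c₀, 0))
    obtain ⟨h, hmem⟩ := hsh f hf
    intro hbot
    rw [hbot, Subgroup.mem_bot] at hmem
    exact hfa (congrFun (shift_inj (r := r) ((congrArg Subtype.val hmem).trans shift_zero.symm)) _)
  · -- strongly closed subgroups
    set T' := T.map (alternatingGroup (Pts (Pts C p s) p r)).subtype
    have hle := strongly_closed_eq hr hB P hgen (fun hp => ?_) T'
      (by rintro _ ⟨x, hx, rfl⟩; exact ⟨(hSW x).1 (hTS hx), x.2⟩)
      (fun h => hTb ((Subgroup.map_eq_bot_iff_of_injective T Subtype.coe_injective).1 h))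
      ?_
    · refine le_antisymm hTS fun x hx => ?_
      obtain ⟨y, hy, hyx⟩ := hle ⟨(hSW x).1 hx, x.2⟩
      exact Subtype.ext hyx ▸ hy
    · subst hp
      refine ⟨.inl (c₀, 0), .inl (c₀, 1), by simp, hP.ge ?_⟩
      refine ⟨1, one_mem _, dlt c₀ 1, ?_⟩
      refine Equiv.ext fun q => ?_
      rcases q with ⟨c, y⟩ | w
      · rcases eq_or_ne c c₀ with rfl | hc
        · rcases zmodTwo_cases y with rfl | rfl
          · simp [dlt]
          · rw [Equiv.swap_apply_right]
            simp [dlt, zmodTwo_add_self]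
        · rw [Equiv.swap_apply_of_ne_of_ne (by simp [hc]) (by simp [hc])]
          simp [dlt, hc]
      · rw [Equiv.swap_apply_of_ne_of_ne (by simp) (by simp)]
        simp
    · rintro _ ⟨x, hx, rfl⟩ c hc hmem
      exact ⟨_, hTc x hx ⟨c, hc⟩ ((hSW _).2 hmem), rfl⟩
  · rintro R (rfl | ⟨hp, rfl⟩)
    · refine ⟨fun x hx => (hSW x).2 ?_, fun c hc _ => ?_⟩
      · obtain ⟨τ, hτ, f, hf⟩ := Subgroup.mem_subgroupOf.1 hx
        exact ⟨τ, by rw [Subgroup.mem_bot] at hτ; rw [hτ]; exact one_mem _, f, hf⟩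
      · obtain ⟨d, hd⟩ := eq_shift_of_commute hsep hr (z := (c : Perm (Pts (Pts C p s) p r)))
          fun f hf => (congrArg Subtype.val (Subgroup.mem_centralizer_iff.1 hc
            ⟨shift f, Perm.mem_alternatingGroup.2 hf⟩
            (Subgroup.mem_subgroupOf.2 (shift_mem_wreath _ f)))).symm
        exact Subgroup.mem_subgroupOf.2 (hd ▸ shift_mem_wreath _ d)
    · refine ⟨fun x hx => (hSW x).2 (hP ▸ sqGroup_le O _ (Subgroup.mem_subgroupOf.1 hx) :),
        fun c hc _ => ?_⟩
      refine Subgroup.mem_subgroupOf.2 (sqGroup_centralizer hr O fun m hm => ?_)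
      exact (congrArg Subtype.val (Subgroup.mem_centralizer_iff.1 hc
        ⟨m, Perm.mem_alternatingGroup.2 (sqGroup_sign hp O hm)⟩
        (Subgroup.mem_subgroupOf.2 hm))).symm
  · intro n hn
    have hconj : ∀ f ∈ evenFam (Pts C p s) p r, ∃ (τ : Perm (Pts C p s)) (g : Pts C p s → ZMod p),
        (n : Perm (Pts (Pts C p s) p r)) * shift (r := r) f = mono (r := r) τ 1 g * (n : Perm (Pts (Pts C p s) p r)) := by
      intro f hf
      obtain ⟨h, hmem⟩ := hsh f hf
      obtain ⟨τ, -, g, hg⟩ := (hSW _).1 ((Subgroup.mem_normalizer_iff.1 hn _).1 hmem)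
      refine ⟨τ, g, ?_⟩
      rw [← hg]
      simp
    obtain ⟨τ, u, d, hnv⟩ := eq_mono_of_conj hsep hr hconj
    set K := Subgroup.closure {m : (alternatingGroup (Pts (Pts C p s) p r)) | m ∈ Subgroup.normalizer ((S₀ : Subgroup (alternatingGroup (Pts (Pts C p s) p r))) : Set (alternatingGroup (Pts (Pts C p s) p r))) ∧
      ∃ R ∈ {R | R = E₀ ∨ (p ≠ 2 ∧ R = R₁)}, m ∈ pGenNormalizer p R}
    have hE : ∀ z ∈ monoGen (Pts C p s) p r, ∃ m ∈ pGenNormalizer p E₀, (m : Perm (Pts (Pts C p s) p r)) = z := by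
      have hle : monoGen (Pts C p s) p r ≤ (pGenNormalizer p E₀).map (alternatingGroup (Pts (Pts C p s) p r)).subtype := by
        refine (Subgroup.closure_le _).2 ?_
        rintro g ⟨hgs, hgp, τ', u', f', rfl⟩
        have hgo : ∃ k, orderOf (mono (r := r) τ' u' f') = p ^ k := by
          rcases hpr.eq_one_or_self_of_dvd _ (orderOf_dvd_of_pow_eq_one hgp) with h | h
          · exact ⟨0, h.trans (pow_zero p).symm⟩
          · exact ⟨1, h.trans (pow_one p).symm⟩
        refine ⟨⟨_, Perm.mem_alternatingGroup.2 hgs⟩, Subgroup.subset_closure ⟨?_, ?_⟩, rfl⟩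
        · show _ ∈ Subgroup.normalizer _
          rw [Subgroup.mem_normalizer_iff]
          intro x
          have hfwd : ∀ (σ : Perm (Pts C p s)) v g (y : Perm (Pts (Pts C p s) p r)),
              y ∈ wreath r p (⊥ : Subgroup (Perm (Pts C p s))) →
              mono σ v g * y * (mono σ v g)⁻¹ ∈ wreath r p (⊥ : Subgroup (Perm (Pts C p s))) := by
            rintro σ v g _ ⟨τ'', hτ'', f'', rfl⟩
            rw [Subgroup.mem_bot] at hτ''
            subst hτ''
            rw [show mono (r := r) (1 : Perm (Pts C p s)) 1 f'' = shift f'' from rfl, conj_shift]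
            exact shift_mem_wreath _ _
          refine ⟨fun hx => Subgroup.mem_subgroupOf.2 (hfwd τ' u' f' _ (Subgroup.mem_subgroupOf.1 hx)),
            fun hx => Subgroup.mem_subgroupOf.2 ?_⟩
          have h1 := hfwd τ'⁻¹ (fun i => (u' (τ'⁻¹ i))⁻¹)
            (fun i => -(((u' (τ'⁻¹ i))⁻¹ : (ZMod p)ˣ) * f' (τ'⁻¹ i))) _ (Subgroup.mem_subgroupOf.1 hx)
          rw [← mono_inv (r := r) τ' u' f'] at h1
          simpa [mul_assoc] using h1
        · obtain ⟨k, hk⟩ := hgo
          exact ⟨k, by rw [← hk]; exact (orderOf_injective (alternatingGroup (Pts (Pts C p s) p r)).subtype Subtype.coe_injective _).symm⟩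
      exact fun z hz => hle hz
    have hgenE : ∀ m : (alternatingGroup (Pts (Pts C p s) p r)), m ∈ Subgroup.normalizer ((S₀ : Subgroup (alternatingGroup (Pts (Pts C p s) p r))) : Set (alternatingGroup (Pts (Pts C p s) p r))) →
        ∀ σ v g, (m : Perm (Pts (Pts C p s) p r)) = mono σ v g → ∏ i, v i = 1 → m ∈ K := by
      intro m hm σ v g hmv hv
      obtain ⟨m', hm', hmm⟩ := hE _ (mono_mem_monoGen hB hBp
        (hmv ▸ Perm.mem_alternatingGroup.1 m.2) hv)
      obtain rfl : m' = m := Subtype.ext (hmm.trans hmv.symm)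
      exact Subgroup.subset_closure ⟨hm, E₀, Or.inl rfl, hm'⟩
    rcases eq_or_ne p 2 with hp | hp
    · exact hgenE n hn τ u d hnv (Finset.prod_eq_one fun i _ => units_eq_one_of_two hp _)
    set a := (∏ i, u i)⁻¹
    have hgens : ∀ z : Perm (Pts (Pts C p s) p r), z ^ p = 1 →
        (∀ y ∈ sqGroup p s r O, z * y * z⁻¹ ∈ sqGroup p s r O) →
        z ∈ (pGenNormalizer p R₁).map (alternatingGroup (Pts (Pts C p s) p r)).subtype := by
      intro z hz hzR
      refine ⟨⟨z, Perm.mem_alternatingGroup.2 (sign_of_pow_prime hp hz)⟩,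
        Subgroup.subset_closure ⟨?_, ?_⟩, rfl⟩
      · show _ ∈ Subgroup.normalizer _
        rw [Subgroup.mem_normalizer_iff]
        intro x
        refine ⟨fun hx => Subgroup.mem_subgroupOf.2 (hzR _ (Subgroup.mem_subgroupOf.1 hx)),
          fun hx => Subgroup.mem_subgroupOf.2 ?_⟩
        have hmap : (sqGroup p s r O).map (MulAut.conj z).toMonoidHom = sqGroup p s r O :=
          Subgroup.eq_of_le_of_card_ge (by rintro _ ⟨w, hw, rfl⟩; exact hzR w hw)
            (Subgroup.card_map_of_injective (f := (MulAut.conj z).toMonoidHom)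
              (MulAut.conj z).injective).ge
        obtain ⟨w, hw, hwe⟩ := hmap.ge (Subgroup.mem_subgroupOf.1 hx)
        have : w = (x : Perm (Pts (Pts C p s) p r)) := mul_left_cancel (mul_right_cancel hwe)
        exact this ▸ hw
      · rcases hpr.eq_one_or_self_of_dvd _ (orderOf_dvd_of_pow_eq_one hz) with h | h
        · exact ⟨0, (orderOf_injective (alternatingGroup (Pts (Pts C p s) p r)).subtype Subtype.coe_injective _).symm.trans (h.trans (pow_zero p).symm)⟩
        · exact ⟨1, (orderOf_injective (alternatingGroup (Pts (Pts C p s) p r)).subtype Subtype.coe_injective _).symm.trans (h.trans (pow_one p).symm)⟩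
    have hX : ∀ b, shift (shearX O b) ∈ (pGenNormalizer p R₁).map (alternatingGroup (Pts (Pts C p s) p r)).subtype := fun b =>
      hgens _ (shift_pow_prime _) fun y hy => shearX_conj_mem O b hy
    have hY : ∀ b, shearY p s r O b ∈ (pGenNormalizer p R₁).map (alternatingGroup (Pts (Pts C p s) p r)).subtype := fun b =>
      hgens _ (shearY_pow_prime O b) fun y hy => shearY_conj_mem O b hy
    obtain ⟨h, hhR, hhv⟩ : torus p s r O a ∈ (pGenNormalizer p R₁).map (alternatingGroup (Pts (Pts C p s) p r)).subtype := by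
      rw [torus_word]
      exact mul_mem (mul_mem (mul_mem (mul_mem (mul_mem (hX _) (hY _)) (hX _)) (hX _)) (hY _)) (hX _)
    have hhN : h ∈ Subgroup.normalizer ((S₀ : Subgroup (alternatingGroup (Pts (Pts C p s) p r))) : Set (alternatingGroup (Pts (Pts C p s) p r))) := by
      have hfwd : ∀ x ∈ (S₀ : Subgroup (alternatingGroup (Pts (Pts C p s) p r))), h * x * h⁻¹ ∈ (S₀ : Subgroup (alternatingGroup (Pts (Pts C p s) p r))) := fun x hx => by
        refine (hSW _).2 ?_
        show (h : Perm (Pts (Pts C p s) p r)) * x * (h : Perm (Pts (Pts C p s) p r))⁻¹ ∈ (wreath r p (P : Subgroup (Perm (Pts C p s))))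
        rw [show (h : Perm (Pts (Pts C p s) p r)) = torus p s r O a from hhv]
        have := (hSW x).1 hx
        simp only [hP] at this ⊢
        exact torus_normalizes O hO a this
      rw [Subgroup.mem_normalizer_iff]
      refine fun x => ⟨hfwd x, fun hx => ?_⟩
      have hmap : (S₀ : Subgroup (alternatingGroup (Pts (Pts C p s) p r))).map (MulAut.conj h).toMonoidHom = (S₀ : Subgroup (alternatingGroup (Pts (Pts C p s) p r))) :=
        Subgroup.eq_of_le_of_card_ge (by rintro _ ⟨w, hw, rfl⟩; exact hfwd w hw)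
          (Subgroup.card_map_of_injective (f := (MulAut.conj h).toMonoidHom)
            (MulAut.conj h).injective).ge
      obtain ⟨w, hw, hwe⟩ := hmap.ge hx
      have : w = x := mul_left_cancel (mul_right_cancel hwe)
      exact this ▸ hw
    have hhK : h ∈ K := Subgroup.subset_closure ⟨hhN, R₁, Or.inr ⟨hp, rfl⟩, hhR⟩
    have hprod : n * h ∈ K := by
      refine hgenE (n * h) (mul_mem hn hhN) (τ * torusBlk p s O a)
        (fun i => u (torusBlk p s O a i) * torusScale p s O a i)
        (fun i => (u (torusBlk p s O a i) : ZMod p) * 0 + d (torusBlk p s O a i)) ?_ ?_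
      · show (n : Perm (Pts (Pts C p s) p r)) * (h : Perm (Pts (Pts C p s) p r)) = _
        rw [hnv, show (h : Perm (Pts (Pts C p s) p r)) = torus p s r O a from hhv, torus, mono_mul]
        rfl
      · rw [Finset.prod_mul_distrib, Equiv.prod_comp, torus_prod O hOcard, mul_inv_cancel]
    have := K.mul_mem hprod (K.inv_mem hhK)
    rwa [mul_inv_cancel_right] at this

/-- The fusion systems of the alternating groups of degree congruent to `0` or `1` modulo `p`. -/
theorem alternating_isSimple (n p : ℕ) (hn : 6 ≤ n) [Fact p.Prime] (hnp : p ^ 2 ≤ n)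
    (hb : n % p ≤ 1) (S : Sylow p (alternatingGroup (Fin n))) :
    (groupFusionSystem (S : Subgroup (alternatingGroup (Fin n)))).IsSimple p := by
  classical
  have hpr := (Fact.out : p.Prime)
  set r := n % p
  set k := n / p
  set s := k % p
  set C := Fin (k / p)
  have hkp : p ≤ k := (Nat.le_div_iff_mul_le hpr.pos).2 (by rw [← pow_two]; exact hnp)
  have : Nonempty C := ⟨⟨0, Nat.div_pos hkp hpr.pos⟩⟩
  have hs : s < p := Nat.mod_lt _ hpr.pos
  have hcardB : Fintype.card (Pts C p s) = k := by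
    simp [C, Fintype.card_sum, Fintype.card_prod, ZMod.card, s, Nat.div_add_mod' k p]
  have hB : 3 ≤ Fintype.card (Pts C p s) := by
    rw [hcardB]
    rcases eq_or_ne p 2 with hp | hp
    · simp only [k, hp]; omega
    · have := hpr.two_le; omega
  obtain ⟨P, hP⟩ := exists_sylow_wreath (B := C) hs (default : Sylow p (Perm C))
  have hgen := sylow_perm_generated (Pts C p s) P
  obtain ⟨W, hW⟩ := exists_sylow_wreath (B := Pts C p s) (r := r) (lt_of_le_of_lt hb hpr.one_lt) P
  obtain ⟨S₀, hS₀⟩ := isSylowIn_inf_normal W (alternatingGroup (Pts (Pts C p s) p r))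
  have hcard : Fintype.card (Pts (Pts C p s) p r) = Fintype.card (Fin n) := by
    simp [Fintype.card_sum, Fintype.card_prod, ZMod.card, C, s, r, k, Nat.div_add_mod' n p,
      Nat.div_add_mod' (n / p) p]
  let e₁ := Equiv.altCongrHom (Fintype.equivOfCardEq hcard)
  obtain ⟨g, hg⟩ := MulAction.exists_smul_eq (alternatingGroup (Fin n))
    (S₀.mapSurjective (f := e₁.toMonoidHom) e₁.surjective) S
  refine alt_data hb hs hB default P hP hgen (e₁.trans (MulAut.conj g)) S₀ ?_ S ?_
  · rw [hS₀, Subgroup.inf_subgroupOf_right, hW]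
  · rw [← hg]
    show Subgroup.map (MulAut.conj g).toMonoidHom (Subgroup.map e₁.toMonoidHom (S₀ : Subgroup _)) = _
    rw [Subgroup.map_map]
    rfl

end Alt

end CfsgLib.Fusion
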