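import Mathlib

/-!
# Monomial permutations of blocks of size `p`
-/

set_option autoImplicit false

open Equiv

namespace CfsgLib.Fusion.Alt

variable {B : Type*} {p r : ℕ}

/-- `B` blocks of `p` points and `r` further points. -/
abbrev Pts (B : Type*) (p r : ℕ) := (B × ZMod p) ⊕ Fin r

/-- The affine permutation `x ↦ u x + d`. -/
def aff (u : (ZMod p)ˣ) (d : ZMod p) : Perm (ZMod p) where
  toFun x := u * x + d
  invFun y := (u⁻¹ : (ZMod p)ˣ) * (y - d)
  left_inv x := by simp [← mul_assoc]
  right_inv y := by simp [← mul_assoc]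

@[simp] theorem aff_apply (u : (ZMod p)ˣ) (d x : ZMod p) : aff u d x = u * x + d := rfl

theorem aff_mul (u v : (ZMod p)ˣ) (d e : ZMod p) :
    aff u d * aff v e = aff (u * v) (u * e + d) :=
  Equiv.ext fun x => by simp [Perm.mul_apply, mul_assoc, mul_add, add_assoc]

theorem aff_one : aff (1 : (ZMod p)ˣ) (0 : ZMod p) = 1 := Equiv.ext fun x => by simp

theorem aff_pow (d : ZMod p) (m : ℕ) : aff (1 : (ZMod p)ˣ) d ^ m = aff 1 ((m : ZMod p) * d) := by
  induction m with
  | zero => simp [aff_one]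
  | succ m ih =>
    rw [pow_succ, ih, aff_mul, one_mul, Nat.cast_succ, Units.val_one, one_mul, add_mul, one_mul,
      add_comm]

/-- The monomial permutation `(i, x) ↦ (τ i, u i x + f i)`, fixing the further points. -/
def mono (τ : Perm B) (u : B → (ZMod p)ˣ) (f : B → ZMod p) : Perm (Pts B p r) :=
  Equiv.sumCongr (Equiv.prodShear τ fun i => aff (u i) (f i)) (Equiv.refl _)

@[simp] theorem mono_inl (τ : Perm B) (u : B → (ZMod p)ˣ) (f : B → ZMod p) (i : B) (x : ZMod p) :
    mono (r := r) τ u f (.inl (i, x)) = .inl (τ i, u i * x + f i) := rfl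

@[simp] theorem mono_inr (τ : Perm B) (u : B → (ZMod p)ˣ) (f : B → ZMod p) (y : Fin r) :
    mono τ u f (.inr y) = .inr y := rfl

theorem mono_mul (τ τ' : Perm B) (u u' : B → (ZMod p)ˣ) (f f' : B → ZMod p) :
    mono (r := r) τ u f * mono τ' u' f' =
      mono (τ * τ') (fun i => u (τ' i) * u' i) (fun i => u (τ' i) * f' i + f (τ' i)) := by
  refine Equiv.ext fun z => ?_
  rcases z with ⟨i, x⟩ | y
  · simp [Perm.mul_apply, mul_assoc, mul_add, add_assoc]
  · simp [Perm.mul_apply]

theorem mono_one : mono (r := r) (1 : Perm B) (1 : B → (ZMod p)ˣ) 0 = 1 := by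
  refine Equiv.ext fun z => ?_
  rcases z with ⟨i, x⟩ | y <;> simp

theorem mono_inj {τ τ' : Perm B} {u u' : B → (ZMod p)ˣ} {f f' : B → ZMod p}
    (h : mono (r := r) τ u f = mono τ' u' f') : τ = τ' ∧ u = u' ∧ f = f' := by
  have h0 := fun i => congrArg (fun g : Perm (Pts B p r) => g (.inl (i, 0))) h
  have h1 := fun i => congrArg (fun g : Perm (Pts B p r) => g (.inl (i, 1))) h
  simp only [mono_inl, Sum.inl.injEq, Prod.mk.injEq, mul_zero, zero_add, mul_one] at h0 h1
  refine ⟨Equiv.ext fun i => (h0 i).1, funext fun i => Units.ext ?_, funext fun i => (h0 i).2⟩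
  have := (h1 i).2
  rw [(h0 i).2] at this
  exact add_right_cancel this

theorem mono_inv (τ : Perm B) (u : B → (ZMod p)ˣ) (f : B → ZMod p) :
    (mono (r := r) τ u f)⁻¹ =
      mono τ⁻¹ (fun i => (u (τ⁻¹ i))⁻¹) (fun i => -(((u (τ⁻¹ i))⁻¹ : (ZMod p)ˣ) * f (τ⁻¹ i))) := by
  rw [inv_eq_iff_mul_eq_one, mono_mul, ← mono_one]
  congr 1
  · exact mul_inv_cancel τ
  · funext i; simp
  · funext i; simp [← mul_assoc]

theorem mono_congr {τ τ' : Perm B} {u u' : B → (ZMod p)ˣ} {f f' : B → ZMod p} (h₁ : τ = τ')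
    (h₂ : ∀ i, u i = u' i) (h₃ : ∀ i, f i = f' i) : mono (r := r) τ u f = mono τ' u' f' := by
  rw [h₁, funext h₂, funext h₃]

/-- Translations inside the blocks. -/
def shift (f : B → ZMod p) : Perm (Pts B p r) := mono 1 1 f
/-- Permutations of the blocks. -/
def blk (τ : Perm B) : Perm (Pts B p r) := mono τ 1 0
/-- Scalings inside the blocks. -/
def scale (u : B → (ZMod p)ˣ) : Perm (Pts B p r) := mono 1 u 0

@[simp] theorem shift_inl (f : B → ZMod p) (i : B) (x : ZMod p) :
    shift (r := r) f (.inl (i, x)) = .inl (i, x + f i) := by simp [shift]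

@[simp] theorem shift_inr (f : B → ZMod p) (y : Fin r) : shift f (.inr y) = .inr y := rfl

theorem mono_eq_prod (τ : Perm B) (u : B → (ZMod p)ˣ) (f : B → ZMod p) :
    mono (r := r) τ u f = blk τ * shift f * scale u := by
  simp only [blk, shift, scale, mono_mul]
  congr 1 <;> funext i <;> simp

theorem shift_add (f g : B → ZMod p) : shift (r := r) (f + g) = shift f * shift g := by
  simp only [shift, mono_mul]
  congr 1 <;> funext i <;> simp [add_comm]

theorem shift_zero : shift (r := r) (0 : B → ZMod p) = 1 := mono_one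

theorem shift_inj {f g : B → ZMod p} (h : shift (r := r) f = shift g) : f = g := (mono_inj h).2.2

theorem shift_neg (f : B → ZMod p) : shift (r := r) (-f) = (shift f)⁻¹ :=
  eq_inv_of_mul_eq_one_left (by rw [← shift_add, neg_add_cancel, shift_zero])

theorem blk_mul (σ τ : Perm B) : blk (p := p) (r := r) (σ * τ) = blk σ * blk τ := by
  simp only [blk, mono_mul]
  congr 1 <;> funext i <;> simp

theorem blk_one : blk (p := p) (r := r) (1 : Perm B) = 1 := mono_one

/-- `blk` as a homomorphism. -/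
def blkHom : Perm B →* Perm (Pts B p r) where
  toFun := blk
  map_one' := blk_one
  map_mul' := blk_mul

@[simp] theorem blkHom_apply (τ : Perm B) : blkHom (p := p) (r := r) τ = blk τ := rfl

theorem blk_injective : Function.Injective (blk (B := B) (p := p) (r := r)) :=
  fun _ _ h => (mono_inj h).1

theorem scale_mul (u v : B → (ZMod p)ˣ) : scale (r := r) (u * v) = scale u * scale v := by
  simp only [scale, mono_mul]
  congr 1 <;> funext i <;> simp

/-- `scale` as a homomorphism. -/
def scaleHom : (B → (ZMod p)ˣ) →* Perm (Pts B p r) where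
  toFun := scale
  map_one' := mono_one
  map_mul' := scale_mul

@[simp] theorem scaleHom_apply (u : B → (ZMod p)ˣ) : scaleHom (r := r) u = scale u := rfl

theorem conj_shift (τ : Perm B) (u : B → (ZMod p)ˣ) (g f : B → ZMod p) :
    mono (r := r) τ u g * shift f * (mono τ u g)⁻¹ =
      shift fun i => (u (τ⁻¹ i) : ZMod p) * f (τ⁻¹ i) := by
  rw [mul_inv_eq_iff_eq_mul]
  simp only [shift, mono_mul]
  congr 1 <;> funext i <;> simp [add_comm]

theorem blk_shift (σ : Perm B) (f : B → ZMod p) :
    blk (r := r) σ * shift f * (blk σ)⁻¹ = shift (f ∘ σ.symm) := by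
  rw [blk, conj_shift]
  congr 1
  funext i
  simp [Equiv.Perm.inv_def]

theorem moved_iff (τ : Perm B) (f : B → ZMod p) (i : B) (x : ZMod p) :
    mono (r := r) τ 1 f (.inl (i, x)) ≠ .inl (i, x) ↔ (τ i ≠ i ∨ f i ≠ 0) := by
  simp [imp_iff_not_or]

section Sign

variable [Fintype B] [DecidableEq B] [Fact p.Prime]

theorem sign_aff_translation (hp : p ≠ 2) (d : ZMod p) :
    Perm.sign (aff (1 : (ZMod p)ˣ) d) = 1 := by
  have h : Perm.sign (aff (1 : (ZMod p)ˣ) d) ^ p = 1 := by
    rw [← map_pow, aff_pow, ZMod.natCast_self, zero_mul, aff_one, map_one]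
  have ho : Odd p := (Fact.out : p.Prime).odd_of_ne_two hp
  rcases Int.units_eq_one_or (Perm.sign (aff (1 : (ZMod p)ˣ) d)) with h1 | h1
  · exact h1
  · rw [h1, ho.neg_one_pow] at h; exact absurd h (by decide)

/-- The sign of a scaling inside one block. -/
def usign : (ZMod p)ˣ →* ℤˣ where
  toFun u := Perm.sign (aff u 0)
  map_one' := by rw [aff_one, map_one]
  map_mul' u v := by rw [← map_mul, aff_mul, mul_zero, add_zero]

theorem sign_mono (τ : Perm B) (u : B → (ZMod p)ˣ) (f : B → ZMod p) :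
    Perm.sign (mono (r := r) τ u f) =
      Perm.sign τ ^ p * ∏ i, Perm.sign (aff (u i) (f i)) := by
  have h : mono (r := r) τ u f = Equiv.sumCongr
      (Equiv.prodCongrLeft (fun _ : ZMod p => τ) * Equiv.prodCongrRight fun i => aff (u i) (f i))
      (Equiv.refl _) := by
    refine Equiv.ext fun z => ?_
    rcases z with ⟨i, x⟩ | y
    · simp [Perm.mul_apply]
    · rfl
  rw [h, Perm.sign_sumCongr, map_mul, Perm.sign_prodCongrLeft, Perm.sign_prodCongrRight,
    Perm.sign_refl, mul_one, Finset.prod_const, Finset.card_univ, ZMod.card]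

theorem sign_blk (τ : Perm B) : Perm.sign (blk (p := p) (r := r) τ) = Perm.sign τ ^ p := by
  rw [blk, sign_mono]
  simp [aff_one]

theorem sign_scale (u : B → (ZMod p)ˣ) :
    Perm.sign (scale (r := r) u) = usign (∏ i, u i) := by
  rw [scale, sign_mono, map_one, one_pow, one_mul, map_prod]
  rfl

theorem sign_shift_odd (hp : p ≠ 2) (f : B → ZMod p) : Perm.sign (shift (r := r) f) = 1 := by
  rw [shift, sign_mono, map_one, one_pow, one_mul]
  exact Finset.prod_eq_one fun i _ => sign_aff_translation hp _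

theorem sign_mono_odd (hp : p ≠ 2) (τ : Perm B) (u : B → (ZMod p)ˣ) (f : B → ZMod p) :
    Perm.sign (mono (r := r) τ u f) = Perm.sign τ * usign (∏ i, u i) := by
  rw [mono_eq_prod, map_mul, map_mul, sign_blk, sign_shift_odd hp, sign_scale, mul_one]
  congr 1
  rcases Int.units_eq_one_or (Perm.sign τ) with h | h <;> rw [h]
  · exact one_pow p
  · exact ((Fact.out : p.Prime).odd_of_ne_two hp).neg_one_pow

end Sign

end CfsgLib.Fusion.Alt
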