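import Cfsg.Agent.Lib.Fusion.Alt.Structure
import Cfsg.Agent.Lib.Fusion.NormalSubgroup
import Cfsg.Agent.Lib.PGroups.Basic

/-!
# No proper strongly closed subgroup in alternating groups
-/

set_option autoImplicit false

open Equiv

namespace CfsgLib.Fusion.Alt

theorem zmodTwo_cases : ∀ x : ZMod 2, x = 0 ∨ x = 1 := by decide

theorem zmodTwo_add_self : ∀ x : ZMod 2, x + x = 0 := by decide

theorem isConj_of_pow_prime {X : Type*} [Fintype X] [DecidableEq X] {p : ℕ} [Fact p.Prime]
    {x y : Perm X} (hx : x ^ p = 1) (hy : y ^ p = 1)
    (h : x.support.card = y.support.card) : IsConj x y := by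
  have key : ∀ z : Perm X, z ^ p = 1 →
      z.cycleType = Multiset.replicate (Multiset.card z.cycleType) p := fun z hz =>
    Multiset.eq_replicate.2 ⟨rfl, fun m hm =>
      ((Fact.out : p.Prime).eq_one_or_self_of_dvd m
        ((Perm.dvd_of_mem_cycleType hm).trans (orderOf_dvd_of_pow_eq_one hz))).resolve_left
          (Perm.one_lt_of_mem_cycleType hm).ne'⟩
  have hs : ∀ z : Perm X, z ^ p = 1 → z.support.card = Multiset.card z.cycleType * p := fun z hz => by
    rw [← Perm.sum_cycleType, key z hz]
    simp
  rw [hs x hx, hs y hy] at h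
  rw [Perm.isConj_iff_cycleType_eq, key x hx, key y hy,
    Nat.eq_of_mul_eq_mul_right (Fact.out : p.Prime).pos h]

variable {B : Type*} [Fintype B] [DecidableEq B] {p r : ℕ} [Fact p.Prime]

omit [Fintype B] [DecidableEq B] in
theorem aff_ne_one : aff (1 : (ZMod p)ˣ) (1 : ZMod p) ≠ 1 := fun h => by
  have := congrArg (fun g : Perm (ZMod p) => g 0) h
  simp at this

theorem sign_shift_single (hp : p = 2) (a : B) :
    Perm.sign (shift (r := r) (dlt a (1 : ZMod p))) = -1 := by
  subst hp
  rw [shift, sign_mono, map_one, one_pow, one_mul, Finset.prod_eq_single a]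
  · rw [Pi.one_apply, dlt, Pi.single_eq_same]
    have : aff (1 : (ZMod 2)ˣ) (1 : ZMod 2) = Equiv.swap 0 1 := by
      refine Equiv.ext fun x => ?_
      rcases zmodTwo_cases x with rfl | rfl
      · simp
      · rw [Equiv.swap_apply_right, aff_apply, Units.val_one, one_mul, zmodTwo_add_self]
    rw [this, Perm.sign_swap zero_ne_one]
  · intro i _ hi
    simp [dlt, hi, aff_one]
  · simp

theorem support_mono (τ : Perm B) (f : B → ZMod p) :
    (mono (r := r) τ 1 f).support.card =
      (Finset.univ.filter fun i => τ i ≠ i ∨ f i ≠ 0).card * p := by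
  have h : (mono (r := r) τ 1 f).support =
      ((Finset.univ.filter fun i => τ i ≠ i ∨ f i ≠ 0) ×ˢ (Finset.univ : Finset (ZMod p))).map
        Function.Embedding.inl := by
    ext q
    rw [Perm.mem_support]
    rcases q with ⟨i, x⟩ | y
    · rw [moved_iff]; simp
    · simp
  rw [h, Finset.card_map, Finset.card_product, Finset.card_univ (α := ZMod p), ZMod.card]

theorem sign_mono_two (hp : p = 2) (σ : Perm B) : Perm.sign (mono (p := p) (r := r) σ 1 0) = 1 := by
  show Perm.sign (blk (p := p) (r := r) σ) = 1
  rw [sign_blk, hp, pow_two, Int.units_mul_self]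

theorem units_eq_one_of_two (hp : p = 2) (u : (ZMod p)ˣ) : u = 1 := by
  subst hp
  refine Units.ext ?_
  exact (zmodTwo_cases _).resolve_left u.ne_zero

theorem exists_other (hB : 3 ≤ Fintype.card B) (a c : B) : ∃ b, b ≠ a ∧ b ≠ c := by
  by_contra h
  push Not at h
  have hsub : (Finset.univ : Finset B) ⊆ {a, c} := fun b _ => by
    rcases eq_or_ne b a with hb | hb
    · simp [hb]
    · simp [h b hb]
  have := (Finset.card_le_card hsub).trans Finset.card_le_two
  rw [Finset.card_univ] at this
  omega

/-- No proper nontrivial subgroup of the wreath Sylow subgroup of the alternating group is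
strongly closed. -/
theorem strongly_closed_eq (hr : r ≤ 1) (hB : 3 ≤ Fintype.card B) (P : Sylow p (Perm B))
    (hgen : (P : Subgroup (Perm B)) ≤ Subgroup.closure {x | x ∈ (P : Subgroup (Perm B)) ∧ x ^ p = 1})
    (hswap : p = 2 → ∃ a b, a ≠ b ∧ Equiv.swap a b ∈ (P : Subgroup (Perm B)))
    (T : Subgroup (Perm (Pts B p r)))
    (hTS : T ≤ wreath r p (P : Subgroup (Perm B)) ⊓ alternatingGroup (Pts B p r)) (hT1 : T ≠ ⊥)
    (hTc : ∀ x ∈ T, ∀ c ∈ alternatingGroup (Pts B p r),
      c * x * c⁻¹ ∈ wreath r p (P : Subgroup (Perm B)) → c * x * c⁻¹ ∈ T) :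
    wreath r p (P : Subgroup (Perm B)) ⊓ alternatingGroup (Pts B p r) ≤ T := by
  classical
  set W := wreath r p (P : Subgroup (Perm B)) with hW
  set A := alternatingGroup (Pts B p r)
  have hpr := (Fact.out : p.Prime)
  -- conjugate elements commuting with an odd permutation
  have hconj : ∀ x ∈ T, ∀ y ∈ W, IsConj x y →
      (∃ s, Perm.sign s = -1 ∧ (s * x = x * s ∨ s * y = y * s)) → y ∈ T := by
    intro x hx y hy hxy ⟨s, hs, hsc⟩
    obtain ⟨c, rfl⟩ := _root_.isConj_iff.1 hxy
    rcases Int.units_eq_one_or (Perm.sign c) with h | h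
    · exact hTc x hx c (Perm.mem_alternatingGroup.2 h) hy
    rcases hsc with hc | hc
    · have he : c * s * x * (c * s)⁻¹ = c * x * c⁻¹ := by
        rw [mul_inv_rev, mul_assoc c s x, hc]
        group
      rw [← he] at hy ⊢
      exact hTc x hx _ (Perm.mem_alternatingGroup.2 (by rw [map_mul, h, hs]; decide)) hy
    · have he : s * c * x * (s * c)⁻¹ = c * x * c⁻¹ := by
        calc s * c * x * (s * c)⁻¹ = s * (c * x * c⁻¹) * s⁻¹ := by group
          _ = c * x * c⁻¹ * s * s⁻¹ := by rw [hc]
          _ = _ := by group
      rw [← he] at hy ⊢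
      exact hTc x hx _ (Perm.mem_alternatingGroup.2 (by rw [map_mul, h, hs]; decide)) hy
  have hsep := separates_evenFam (p := p) (r := r) hB
  -- a central element
  obtain ⟨f, hf0, hfT⟩ : ∃ f : B → ZMod p, f ≠ 0 ∧ shift f ∈ T := by
    let S' : Subgroup (Perm (Pts B p r)) := W ⊓ A
    have hS'p : IsPGroup p S' := by
      obtain ⟨S₁, hS₁⟩ := exists_sylow_wreath (r := r) (lt_of_le_of_lt hr hpr.one_lt) P
      have hWp := S₁.isPGroup'
      rw [hS₁] at hWp
      exact hWp.to_le inf_le_left
    have hTn : (T.subgroupOf S').Normal :=
      ⟨fun x hx y => hTc x hx y y.2.2 (W.mul_mem (W.mul_mem y.2.1 x.2.1) (W.inv_mem y.2.1))⟩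
    obtain ⟨z, hz, hz1⟩ := (Subgroup.bot_or_exists_ne_one (T.subgroupOf S' ⊓
      Subgroup.center S')).resolve_left
        (CfsgLib.PGroups.inf_center_ne_bot hS'p fun h => hT1 (le_bot_iff.1 (fun x hx => by
          have : (⟨x, hTS hx⟩ : S') ∈ T.subgroupOf S' := hx
          rw [h, Subgroup.mem_bot] at this
          exact congrArg Subtype.val this)))
    obtain ⟨d, hd⟩ := eq_shift_of_commute hsep hr (z := (z : Perm (Pts B p r))) fun g hg =>
      (congrArg Subtype.val (Subgroup.mem_center_iff.1 hz.2
        ⟨shift g, shift_mem_wreath _ g, Perm.mem_alternatingGroup.2 hg⟩)).symm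
    refine ⟨d, ?_, hd ▸ hz.1⟩
    rintro rfl
    exact hz1 (Subtype.ext (hd.trans shift_zero))
  have hadd : ∀ g h : B → ZMod p, shift g ∈ T → shift h ∈ T → shift (g + h) ∈ T := fun g h hg hh => by
    rw [shift_add]; exact T.mul_mem hg hh
  have hmap : ∀ g, shift g ∈ T → ∀ (σ : Perm B) (u : B → (ZMod p)ˣ),
      Perm.sign (mono (r := r) σ u 0) = 1 →
        shift (fun i => (u (σ⁻¹ i) : ZMod p) * g (σ⁻¹ i)) ∈ T := by
    intro g hg σ u hs
    have := hTc _ hg _ (Perm.mem_alternatingGroup.2 hs) (by
      rw [conj_shift]; exact shift_mem_wreath _ _)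
    rwa [conj_shift] at this
  have hmapσ : ∀ g, shift g ∈ T → ∀ σ : Perm B, (p = 2 ∨ Perm.sign σ = 1) →
      shift (g ∘ σ.symm) ∈ T := by
    intro g hg σ hσ
    have hs : Perm.sign (mono (r := r) σ (1 : B → (ZMod p)ˣ) 0) = 1 := by
      rcases hσ with h | h
      · exact sign_mono_two h σ
      · show Perm.sign (blk (p := p) (r := r) σ) = 1
        rw [sign_blk, h, one_pow]
    have := hmap g hg σ 1 hs
    simp only [Pi.one_apply, Units.val_one, one_mul] at this
    exact this
  -- all even translations
  have hshift : ∀ g : B → ZMod p, Perm.sign (shift (r := r) g) = 1 → shift g ∈ T := by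
    rcases eq_or_ne p 2 with hp | hp
    · have h01 : ∀ x : ZMod p, x = 0 ∨ x = 1 := by subst hp; exact zmodTwo_cases
      have h2 : ∀ x : ZMod p, x + x = 0 := by subst hp; exact zmodTwo_add_self
      obtain ⟨a, b, hab, hpair⟩ : ∃ a b, a ≠ b ∧ shift (dlt a 1 + dlt b (1 : ZMod p)) ∈ T := by
        by_cases hz : ∃ c, f c = 0
        · obtain ⟨c, hc⟩ := hz
          obtain ⟨a, ha⟩ := Function.ne_iff.1 hf0
          have ha1 : f a = 1 := (h01 _).resolve_left ha
          have hac : a ≠ c := fun h => ha (h ▸ hc)
          refine ⟨a, c, hac, ?_⟩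
          have := hadd _ _ hfT (hmapσ f hfT (Equiv.swap a c) (Or.inl hp))
          convert this using 2
          funext i
          simp only [Equiv.symm_swap, Pi.add_apply, Function.comp_apply, dlt, Pi.single_apply]
          rcases eq_or_ne i a with rfl | hia
          · simp [hac, ha1, hc]
          · rcases eq_or_ne i c with rfl | hic
            · simp [hia, ha1, hc]
            · simp [hia, hic, Equiv.swap_apply_of_ne_of_ne hia hic, h2]
        · push Not at hz
          obtain ⟨a, b, hab, hsw⟩ := hswap hp
          obtain ⟨c, hca, hcb⟩ := exists_other hB a b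
          refine ⟨a, b, hab, ?_⟩
          have hall : ∀ i, f i = 1 := fun i => (h01 _).resolve_left (hz i)
          set g : B → ZMod p := fun i => if i = a ∨ i = b then 0 else 1
          have hfg : f = g + (dlt a 1 + dlt b 1) := by
            funext i
            simp only [g, Pi.add_apply, hall, dlt, Pi.single_apply]
            rcases eq_or_ne i a with rfl | hia
            · simp [hab]
            · rcases eq_or_ne i b with rfl | hib <;> simp [*]
          have hyW : mono (r := r) (Equiv.swap a b) 1 g ∈ W := ⟨_, hsw, g, rfl⟩
          have hy2 : mono (r := r) (Equiv.swap a b) 1 g ^ p = 1 := by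
            subst hp
            rw [pow_two, mono_mul, ← mono_one]
            refine mono_congr (Equiv.swap_mul_self a b) (fun i => by simp) fun i => ?_
            ·
              have : g (Equiv.swap a b i) = g i := by
                simp only [g]
                rcases eq_or_ne i a with rfl | hia
                · simp
                · rcases eq_or_ne i b with rfl | hib
                  · simp
                  · rw [Equiv.swap_apply_of_ne_of_ne hia hib]
              simp [this, h2]
          have hy : mono (r := r) (Equiv.swap a b) 1 g ∈ T := by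
            refine hconj _ hfT _ hyW (isConj_of_pow_prime (shift_pow_prime f) hy2 ?_)
              ⟨shift (dlt a 1), sign_shift_single hp a,
                Or.inl (by rw [← shift_add, ← shift_add, add_comm])⟩
            rw [show shift (r := r) f = mono 1 1 f from rfl, support_mono, support_mono]
            congr 2
            refine Finset.filter_congr fun i _ => iff_of_true (Or.inr (hz i)) ?_
            simp only [g]
            rcases eq_or_ne i a with rfl | hia
            · exact Or.inl (by simp [hab.symm])
            · rcases eq_or_ne i b with rfl | hib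
              · exact Or.inl (by simp [hab])
              · exact Or.inr (by simp [hia, hib])
          set x := mono (r := r) (Equiv.swap a b) 1 (dlt a 1 + dlt b (1 : ZMod p)) with hx
          have hyx : mono (r := r) (Equiv.swap a b) 1 g * shift f = x := by
            rw [hx, shift, mono_mul]
            refine mono_congr (mul_one _) (fun i => by simp) fun i => ?_
            · simp only [Perm.one_apply, Pi.one_apply, Units.val_one, one_mul, hfg, Pi.add_apply]
              rw [add_comm (g i), add_assoc, h2, add_zero]
          refine hconj _ (hyx ▸ T.mul_mem hy hfT) _ (shift_mem_wreath _ _) ?_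
            ⟨shift (dlt c 1), sign_shift_single hp c, Or.inr (by rw [← shift_add, ← shift_add, add_comm])⟩
          have hswapfix : ∀ i, (dlt a (1 : ZMod p) + dlt b (1 : ZMod p)) (Equiv.swap a b i) =
              (dlt a (1 : ZMod p) + dlt b (1 : ZMod p)) i := by
            intro i
            simp only [Pi.add_apply, dlt, Pi.single_apply]
            rcases eq_or_ne i a with rfl | hia
            · simp [hab, hab.symm]
            · rcases eq_or_ne i b with rfl | hib
              · simp [hab, hab.symm]
              · rw [Equiv.swap_apply_of_ne_of_ne hia hib]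
          refine isConj_of_pow_prime ?_ (shift_pow_prime _) ?_
          · rw [hx]
            subst hp
            rw [pow_two, mono_mul, ← mono_one]
            refine mono_congr (Equiv.swap_mul_self a b) (fun i => by simp) fun i => ?_
            simp only [hswapfix]; simp [h2]
          · rw [hx, show shift (r := r) (dlt a 1 + dlt b (1 : ZMod p)) = mono 1 1 _ from rfl,
              support_mono, support_mono]
            congr 2
            refine Finset.filter_congr fun i _ => ?_
            rcases eq_or_ne i a with rfl | hia
            · simp [dlt, hab, hab.symm]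
            · rcases eq_or_ne i b with rfl | hib
              · simp [dlt, hab, hab.symm]
              · simp [dlt, hia, hib, Equiv.swap_apply_of_ne_of_ne hia hib]
      have hpairs : ∀ a' b' : B, a' ≠ b' → shift (dlt a' 1 + dlt b' (1 : ZMod p)) ∈ T := by
        intro a' b' hab'
        set σ₁ := Equiv.swap a a'
        set σ := Equiv.swap (σ₁ b) b' * σ₁
        have ha : σ a = a' := by
          simp only [σ, σ₁, Perm.mul_apply, Equiv.swap_apply_left]
          refine Equiv.swap_apply_of_ne_of_ne (fun h => hab ?_) hab'
          exact (Equiv.swap a a').injective (by rw [Equiv.swap_apply_left]; exact h)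
        have hb : σ b = b' := by simp [σ]
        have := hmapσ _ hpair σ (Or.inl hp)
        convert this using 2
        funext i
        simp only [Pi.add_apply, Function.comp_apply, dlt, Pi.single_apply, Equiv.symm_apply_eq, ha, hb]
      intro g hg
      obtain ⟨a₀, -⟩ := Function.ne_iff.1 hf0
      set q : B → B → ZMod p := fun i => if i = a₀ then 0 else g i • (dlt a₀ 1 + dlt i 1)
      have hqT : ∀ i, shift (q i) ∈ T ∧ Perm.sign (shift (r := r) (q i)) = 1 := fun i => by
        rcases eq_or_ne i a₀ with rfl | hi
        · simp [q, shift_zero, T.one_mem]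
        · rcases h01 (g i) with h | h
          · simp [q, hi, h, shift_zero, T.one_mem]
          · simp only [q, if_neg hi, h, one_smul]
            exact ⟨hpairs a₀ i hi.symm, sign_shift_pair a₀ i 1⟩
      have hsum : ∀ s : Finset B, shift (∑ i ∈ s, q i) ∈ T ∧
          Perm.sign (shift (r := r) (∑ i ∈ s, q i)) = 1 := by
        intro s
        induction s using Finset.induction_on with
        | empty => simp [shift_zero, T.one_mem]
        | insert i s hi ih =>
          rw [Finset.sum_insert hi]
          exact ⟨hadd _ _ (hqT i).1 ih.1, by rw [shift_add, map_mul, (hqT i).2, ih.2, one_mul]⟩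
      obtain ⟨hQ, hQs⟩ := hsum Finset.univ
      have hrest : ∀ j, j ≠ a₀ → (∑ i, q i) j = g j := by
        intro j hj
        rw [Finset.sum_apply, Finset.sum_eq_single j]
        · simp [q, dlt, hj]
        · intro i _ hij
          rcases eq_or_ne i a₀ with rfl | hi
          · simp [q]
          · simp [q, dlt, hi, hj, hij.symm]
        · simp
      have hg' : g = (∑ i, q i) + dlt a₀ (g a₀ - (∑ i, q i) a₀) := by
        funext j
        rcases eq_or_ne j a₀ with rfl | hj
        · simp [dlt]
        · simp [dlt, hj, hrest j hj]
      rcases h01 (g a₀ - (∑ i, q i) a₀) with h | h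
      · rw [h, dlt, Pi.single_zero, add_zero] at hg'
        exact hg' ▸ hQ
      · rw [h] at hg'
        rw [hg', shift_add, map_mul, hQs, sign_shift_single hp] at hg
        exact absurd hg (by decide)
    · -- odd prime
      have h2 : (2 : ZMod p) ≠ 0 := fun h => hp ((ZMod.natCast_eq_zero_iff 2 p).1
        (by exact_mod_cast h) |> fun hd => (Nat.prime_dvd_prime_iff_eq hpr Nat.prime_two).1 hd)
      let ε : B → B → B → (ZMod p)ˣ := fun a b i => if i = a ∨ i = b then -1 else 1
      have hε : ∀ g, shift g ∈ T → ∀ a b, a ≠ b →
          shift (g - fun i => (ε a b i : ZMod p) * g i) ∈ T := by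
        intro g hg a b hab
        have hprod : ∏ i, ε a b i = 1 := by
          simp only [ε, Finset.prod_ite, Finset.prod_const, one_pow, mul_one]
          rw [show (Finset.univ.filter fun i => i = a ∨ i = b) = {a, b} by ext; simp,
            Finset.card_pair hab]
          simp
        have := hmap g hg 1 (ε a b) (by
          show Perm.sign (scale (r := r) (ε a b)) = 1
          rw [sign_scale, hprod, map_one])
        simp only [inv_one, Perm.one_apply] at this
        rw [sub_eq_add_neg]
        exact hadd _ _ hg (by rw [shift_neg]; exact T.inv_mem this)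
      obtain ⟨a, ha⟩ := Function.ne_iff.1 hf0
      obtain ⟨b, hba, -⟩ := exists_other hB a a
      obtain ⟨c, hca, hcb⟩ := exists_other hB a b
      have h4 := hε _ (hε f hfT a b hba.symm) a c hca.symm
      have hv : ((f - fun i => (ε a b i : ZMod p) * f i) -
          fun i => (ε a c i : ZMod p) * (f - fun i => (ε a b i : ZMod p) * f i) i) =
            dlt a (2 * 2 * f a) := by
        funext i
        simp only [Pi.sub_apply, dlt, ε]
        rcases eq_or_ne i a with rfl | hia
        · simp; ring
        · rcases eq_or_ne i b with rfl | hib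
          · simp [hia, hcb.symm]
          · rcases eq_or_ne i c with rfl | hic <;> simp [*]
      rw [hv] at h4
      have hc0 : 2 * 2 * f a ≠ 0 := mul_ne_zero (mul_ne_zero h2 h2) ha
      have hda : ∀ x, shift (dlt a x) ∈ T := fun x => by
        obtain ⟨m, rfl⟩ := exists_nat_mul hc0 x
        have : dlt a ((m : ZMod p) * (2 * 2 * f a)) = m • dlt a (2 * 2 * f a) := by
          funext i; simp [dlt, Pi.single_apply]
        rw [this, ← shift_pow]
        exact T.pow_mem h4 m
      have hall : ∀ i x, shift (dlt i x) ∈ T := by
        intro i x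
        rcases eq_or_ne i a with rfl | hia
        · exact hda x
        obtain ⟨j, hja, hji⟩ := exists_other hB a i
        have hs : Perm.sign (Equiv.swap i j * Equiv.swap a j) = 1 := by
          rw [map_mul, Perm.sign_swap hji.symm, Perm.sign_swap hja.symm, Int.units_mul_self]
        have ha' : (Equiv.swap i j * Equiv.swap a j) a = i := by
          rw [Perm.mul_apply, Equiv.swap_apply_left, Equiv.swap_apply_right]
        have := hmapσ _ (hda x) _ (Or.inr hs)
        convert this using 2
        funext l
        simp only [dlt, Function.comp_apply, Pi.single_apply, Equiv.symm_apply_eq, ha']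
      intro g _
      have : g = ∑ i, dlt i (g i) := (Finset.univ_sum_single g).symm
      rw [this]
      refine Finset.sum_induction (fun i => dlt i (g i)) (fun h => shift h ∈ T) hadd ?_ fun i _ => hall i _
      rw [shift_zero]
      exact T.one_mem
  -- block permutations of order `p`
  have hblk : ∀ τ ∈ (P : Subgroup (Perm B)), τ ^ p = 1 → blk τ ∈ T := by
    intro τ hτ hτp
    rcases eq_or_ne τ 1 with rfl | hτ1
    · rw [blk_one]; exact T.one_mem
    set g : B → ZMod p := fun i => if τ i ≠ i then 1 else 0
    have hxy : IsConj (shift (r := r) g) (blk τ) := by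
      refine isConj_of_pow_prime (shift_pow_prime g) (by rw [blk_pow, hτp, blk_one]) ?_
      rw [show shift (r := r) g = mono 1 1 g from rfl, show blk (p := p) (r := r) τ = mono τ 1 0 from rfl,
        support_mono, support_mono]
      congr 2
      refine Finset.filter_congr fun i _ => ?_
      by_cases h : τ i = i <;> simp [g, h]
    have hgs : Perm.sign (shift (r := r) g) = 1 := by
      rcases eq_or_ne p 2 with hp | hp
      · obtain ⟨c, hc⟩ := _root_.isConj_iff.1 hxy
        have := congrArg Perm.sign hc
        rw [map_mul, map_mul, map_inv, mul_comm, inv_mul_cancel_left] at this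
        rw [this]
        exact sign_mono_two hp τ
      · exact sign_shift_odd hp g
    obtain ⟨a, ha⟩ : ∃ a, τ a ≠ a := by
      by_contra h
      push Not at h
      exact hτ1 (Equiv.ext h)
    refine hconj _ (hshift g hgs) _ (blk_mem_wreath hτ) hxy ?_
    rcases eq_or_ne p 2 with hp | hp
    · exact ⟨shift (dlt a 1), sign_shift_single hp a,
        Or.inl (by rw [← shift_add, ← shift_add, add_comm])⟩
    · have hb : τ (τ a) ≠ τ a := fun h => ha (τ.injective h)
      refine ⟨blk (Equiv.swap a (τ a)), ?_, Or.inl ?_⟩
      · rw [sign_blk, Perm.sign_swap (Ne.symm ha), (hpr.odd_of_ne_two hp).neg_one_pow]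
      · have hg : g ∘ (Equiv.swap a (τ a)).symm = g := by
          funext i
          simp only [Equiv.symm_swap, Function.comp_apply, g]
          rcases eq_or_ne i a with rfl | hia
          · simp [ha, hb]
          · rcases eq_or_ne i (τ a) with rfl | hib
            · simp [ha, hb]
            · rw [Equiv.swap_apply_of_ne_of_ne hia hib]
        conv_rhs => rw [← hg, ← blk_shift, inv_mul_cancel_right]
  rintro x ⟨⟨τ, hτ, g, rfl⟩, hxA⟩
  have hblk' : blk τ ∈ T := by
    have hle : Subgroup.closure {x | x ∈ (P : Subgroup (Perm B)) ∧ x ^ p = 1} ≤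
        T.comap (blkHom (p := p) (r := r)) :=
      (Subgroup.closure_le _).2 fun σ hσ => hblk σ hσ.1 hσ.2
    exact hle (hgen hτ)
  have hgs : Perm.sign (shift (r := r) g) = 1 := by
    have h1 := Perm.mem_alternatingGroup.1 hxA
    rw [mono_eq_blk_shift, map_mul, Perm.mem_alternatingGroup.1 (hTS hblk').2, one_mul] at h1
    exact h1
  rw [mono_eq_blk_shift]
  exact T.mul_mem hblk' (hshift g hgs)

end CfsgLib.Fusion.Alt
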