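import Cfsg.Agent.Lib.Fusion.Alt.Wreath

/-!
# Centralizers and normalizers of the block translations
-/

set_option autoImplicit false

open Equiv

namespace CfsgLib.Fusion.Alt

variable {B : Type*} {p r : ℕ}

/-- The blocks are separated by a family of translations. -/
def Separates (Fam : Set (B → ZMod p)) : Prop :=
  (∀ a, ∃ f ∈ Fam, f a ≠ 0) ∧ ∀ a c, c ≠ a → ∃ f ∈ Fam, f a ≠ 0 ∧ f c = 0

theorem shift_ne_iff (f : B → ZMod p) (i : B) (x : ZMod p) :
    shift (r := r) f (.inl (i, x)) ≠ .inl (i, x) ↔ f i ≠ 0 := by simp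

theorem moved_commute {X : Type*} {z g : Perm X} (hc : z * g = g * z) {y : X} (hy : g y ≠ y) :
    g (z y) ≠ z y := fun h => hy (z.injective (by
      rw [← Perm.mul_apply, hc, Perm.mul_apply, h]))

variable [Fact p.Prime]

theorem exists_nat_mul {c : ZMod p} (hc : c ≠ 0) (x : ZMod p) : ∃ m : ℕ, x = m * c :=
  ⟨(x / c).val, by rw [ZMod.natCast_zmod_val, div_mul_cancel₀ x hc]⟩

theorem translation_of_commute {z : Perm (Pts B p r)} {f : B → ZMod p} {a : B}
    (hc : z * shift f = shift f * z) (ha : f a ≠ 0) {d : ZMod p}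
    (h0 : z (.inl (a, 0)) = .inl (a, d)) (x : ZMod p) :
    z (.inl (a, x)) = .inl (a, x + d) := by
  obtain ⟨m, rfl⟩ := exists_nat_mul ha x
  have h := congrArg (fun g : Perm (Pts B p r) => g (.inl (a, 0))) ((Commute.pow_right hc m).eq)
  simp only [Perm.mul_apply, shift_pow, shift_inl, zero_add, h0, Pi.mul_apply, Pi.natCast_apply, nsmul_eq_mul] at h
  rw [h, add_comm]

theorem eq_shift_of_commute {Fam : Set (B → ZMod p)} (hsep : Separates Fam) (hr : r ≤ 1)
    {z : Perm (Pts B p r)} (hz : ∀ f ∈ Fam, z * shift f = shift f * z) :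
    ∃ d : B → ZMod p, z = shift d := by
  have hblock : ∀ a, ∃ d, ∀ x, z (.inl (a, x)) = .inl (a, x + d) := by
    intro a
    obtain ⟨f, hf, hfa⟩ := hsep.1 a
    suffices h : ∃ d, z (.inl (a, 0)) = .inl (a, d) by
      obtain ⟨d, hd⟩ := h
      exact ⟨d, translation_of_commute (hz f hf) hfa hd⟩
    rcases hv : z (.inl (a, 0)) with ⟨c, d⟩ | y
    · rcases eq_or_ne c a with rfl | hca
      · exact ⟨d, rfl⟩
      · obtain ⟨g, hg, hga, hgc⟩ := hsep.2 a c hca
        exact absurd hgc ((shift_ne_iff g c d).1 (hv ▸ moved_commute (hz g hg)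
          ((shift_ne_iff g a 0).2 hga)))
    · exact absurd (shift_inr f y) (hv ▸ moved_commute (hz f hf) ((shift_ne_iff f a 0).2 hfa))
  choose d hd using hblock
  refine ⟨d, Equiv.ext fun q => ?_⟩
  rcases q with ⟨a, x⟩ | y
  · rw [hd, shift_inl]
  · rw [shift_inr]
    rcases hv : z (.inr y) with ⟨c, x⟩ | y'
    · have : z (.inr y) = z (.inl (c, x - d c)) := by rw [hd, sub_add_cancel, hv]
      exact absurd (z.injective this) Sum.inr_ne_inl
    · have : y' = y := Fin.ext (by omega)
      rw [this]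

variable [Fintype B]

theorem eq_mono_of_conj {Fam : Set (B → ZMod p)} (hsep : Separates Fam) (hr : r ≤ 1)
    {n : Perm (Pts B p r)}
    (hn : ∀ f ∈ Fam, ∃ (τ : Perm B) (g : B → ZMod p), n * shift f = mono τ 1 g * n) :
    ∃ (τ : Perm B) (u : B → (ZMod p)ˣ) (d : B → ZMod p), n = mono τ u d := by
  have hmove : ∀ {f : B → ZMod p} {τ : Perm B} {g : B → ZMod p},
      n * shift f = mono τ 1 g * n → ∀ q, (mono τ 1 g (n q) ≠ n q ↔ shift f q ≠ q) := by
    intro f τ g h q
    rw [← Perm.mul_apply, ← h, Perm.mul_apply, n.injective.ne_iff]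
  have hblock : ∀ a, ∃ i, ∀ x, ∃ y, n (.inl (a, x)) = .inl (i, y) := by
    intro a
    obtain ⟨f, hf, hfa⟩ := hsep.1 a
    obtain ⟨τ, g, hτ⟩ := hn f hf
    rcases hv : n (.inl (a, 0)) with ⟨i, y⟩ | y
    swap
    · exact absurd (mono_inr τ 1 g y) (hv ▸ (hmove hτ _).2 ((shift_ne_iff f a 0).2 hfa))
    refine ⟨i, ?_⟩
    have hback : ∀ y', ∃ x, n (.inl (a, x)) = .inl (i, y') := by
      intro y'
      have key : ∀ f' ∈ Fam, f' a ≠ 0 → shift (r := r) f' (n.symm (.inl (i, y'))) ≠ n.symm (.inl (i, y')) := by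
        intro f' hf' hf'a
        obtain ⟨τ', g', hτ'⟩ := hn f' hf'
        rw [← hmove hτ', Equiv.apply_symm_apply, moved_iff, ← moved_iff τ' g' i y, ← hv,
          hmove hτ', shift_ne_iff]
        exact hf'a
      rcases hw : n.symm (.inl (i, y')) with ⟨c, x⟩ | w
      · rcases eq_or_ne c a with rfl | hca
        · exact ⟨x, by rw [← hw, Equiv.apply_symm_apply]⟩
        · obtain ⟨f', hf', hf'a, hf'c⟩ := hsep.2 a c hca
          exact absurd hf'c ((shift_ne_iff f' c x).1 (hw ▸ key f' hf' hf'a))
      · exact absurd (shift_inr f w) (hw ▸ key f hf hfa)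
    choose ξ hξ using hback
    have hξinj : Function.Injective ξ := fun y₁ y₂ h => by
      have := (hξ y₁).symm.trans (h ▸ hξ y₂)
      simpa using this
    intro x
    obtain ⟨y', rfl⟩ := Finite.surjective_of_injective hξinj x
    exact ⟨y', hξ y'⟩
  choose τ₀ φ hφ using hblock
  have hτ₀ : Function.Injective τ₀ := by
    intro a b h
    have hinj : Function.Injective (φ a) := fun x x' hx => by
      have : n (.inl (a, x)) = n (.inl (a, x')) := by rw [hφ, hφ, hx]
      simpa using n.injective this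
    obtain ⟨x, hx⟩ := Finite.surjective_of_injective hinj (φ b 0)
    have : n (.inl (a, x)) = n (.inl (b, 0)) := by rw [hφ, hφ, hx, h]
    have := n.injective this
    simp only [Sum.inl.injEq, Prod.mk.injEq] at this
    exact this.1
  let τ : Perm B := Equiv.ofBijective τ₀ (Finite.injective_iff_bijective.1 hτ₀)
  have haff : ∀ a, ∃ u : (ZMod p)ˣ, ∀ x, φ a x = u * x + φ a 0 := by
    intro a
    obtain ⟨f, hf, hfa⟩ := hsep.1 a
    obtain ⟨σ, g, hσ⟩ := hn f hf
    have hstep : ∀ x, φ a (x + f a) = φ a x + g (τ₀ a) := by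
      intro x
      have := congrArg (fun h : Perm (Pts B p r) => h (.inl (a, x))) hσ
      simp only [Perm.mul_apply, shift_inl, hφ, mono_inl, Pi.one_apply, Units.val_one, one_mul,
        Sum.inl.injEq, Prod.mk.injEq] at this
      exact this.2
    have hiter : ∀ m : ℕ, φ a (m * f a) = m * g (τ₀ a) + φ a 0 := by
      intro m
      induction m with
      | zero => simp
      | succ m ih =>
        rw [Nat.cast_succ, add_mul, one_mul, hstep, ih]
        ring
    have hne : g (τ₀ a) / f a ≠ 0 := by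
      refine div_ne_zero (fun h0 => hfa ?_) hfa
      have h1 := hstep 0
      rw [h0, add_zero, zero_add] at h1
      have : n (.inl (a, f a)) = n (.inl (a, 0)) := by rw [hφ, hφ, h1]
      simpa using n.injective this
    refine ⟨Units.mk0 _ hne, fun x => ?_⟩
    obtain ⟨m, rfl⟩ := exists_nat_mul hfa x
    rw [hiter, Units.val_mk0]
    field_simp
  choose u hu using haff
  refine ⟨τ, u, fun a => φ a 0, Equiv.ext fun q => ?_⟩
  rcases q with ⟨a, x⟩ | y
  · rw [hφ, hu, mono_inl]; rfl
  · rw [mono_inr]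
    rcases hv : n (.inr y) with ⟨c, x⟩ | y'
    · obtain ⟨a, rfl⟩ := τ.surjective c
      have : n (.inr y) = n (.inl (a, (u a : ZMod p)⁻¹ * (x - φ a 0))) := by
        rw [hv, hφ, hu]
        congr 2
        rw [← mul_assoc, mul_inv_cancel₀ (u a).ne_zero, one_mul, sub_add_cancel]
      exact absurd (n.injective this) Sum.inr_ne_inl
    · have : y' = y := Fin.ext (by omega)
      rw [this]

variable [DecidableEq B]

/-- The translation by `c` in block `a`. -/
abbrev dlt (a : B) (c : ZMod p) : B → ZMod p := Pi.single a c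

theorem sign_shift_pair (a b : B) (c : ZMod p) :
    Perm.sign (shift (r := r) (dlt a c + dlt b c)) = 1 := by
  have h : Perm.sign (shift (r := r) (dlt b c)) = Perm.sign (shift (r := r) (dlt a c)) := by
    have he : dlt b c = dlt a c ∘ (Equiv.swap a b).symm := by
      funext i
      simp only [dlt, Equiv.symm_swap, Function.comp_apply, Pi.single_apply]
      rcases eq_or_ne i a with rfl | hia
      · rw [Equiv.swap_apply_left]; split_ifs <;> simp_all
      · rcases eq_or_ne i b with rfl | hib
        · rw [Equiv.swap_apply_right]; simp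
        · rw [Equiv.swap_apply_of_ne_of_ne hia hib]; simp [hia, hib]
    rw [he, ← blk_shift, map_mul, map_mul, map_inv, mul_comm, inv_mul_cancel_left]
  rw [shift_add, map_mul, h, Int.units_mul_self]

/-- The translations which are even permutations. -/
def evenFam (B : Type*) (p r : ℕ) [Fintype B] [DecidableEq B] [Fact p.Prime] :
    Set (B → ZMod p) := {f | Perm.sign (shift (r := r) f) = 1}

theorem separates_evenFam (hB : 3 ≤ Fintype.card B) : Separates (evenFam B p r) := by
  have hthird : ∀ a c : B, ∃ b, b ≠ a ∧ b ≠ c := fun a c => by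
    by_contra h
    push Not at h
    have hsub : (Finset.univ : Finset B) ⊆ {a, c} := fun b _ => by
      rcases eq_or_ne b a with hb | hb
      · simp [hb]
      · simp [h b hb]
    have := (Finset.card_le_card hsub).trans Finset.card_le_two
    rw [Finset.card_univ] at this
    omega
  constructor
  · intro a
    obtain ⟨b, hba, -⟩ := hthird a a
    exact ⟨dlt a 1 + dlt b 1, sign_shift_pair a b 1, by simp [dlt, hba.symm]⟩
  · intro a c hca
    obtain ⟨b, hba, hbc⟩ := hthird a c
    exact ⟨dlt a 1 + dlt b 1, sign_shift_pair a b 1, by simp [dlt, hba.symm],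
      by simp [dlt, hca, hbc.symm]⟩

end CfsgLib.Fusion.Alt
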