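import Cfsg.Agent.Lib.Fusion.Alt.Local

/-!
# A torus element inside the normalizer of a regular subgroup of order `p²`
-/

set_option autoImplicit false

open Equiv

namespace CfsgLib.Fusion.Alt

variable {C : Type*} [Fintype C] [DecidableEq C] {p s r : ℕ} [Fact p.Prime]

/-- Translations of squares in `O`, translations of blocks elsewhere. -/
def sqGroup (p s r : ℕ) [Fact p.Prime] (O : Finset C) :
    Subgroup (Perm (Pts (Pts C p s) p r)) where
  carrier := {z | ∃ (g : C → ZMod p) (f : Pts C p s → ZMod p), (∀ c, c ∉ O → g c = 0) ∧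
    (∀ c ∈ O, ∀ y, f (.inl (c, y)) = f (.inl (c, 0))) ∧ z = mono (shift g) 1 f}
  one_mem' := ⟨0, 0, fun _ _ => rfl, fun _ _ _ => rfl, by rw [shift_zero, mono_one]⟩
  mul_mem' := by
    rintro _ _ ⟨g, f, hg, hf, rfl⟩ ⟨g', f', hg', hf', rfl⟩
    refine ⟨g + g', fun i => f' i + f (shift g' i), fun c hc => ?_, fun c hc y => ?_, ?_⟩
    · simp [hg c hc, hg' c hc]
    · simp only [shift_inl]; rw [hf' c hc y, hf c hc, hf c hc (0 + g' c)]
    · rw [mono_mul, shift_add]
      exact mono_congr rfl (fun i => by simp) fun i => by simp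
  inv_mem' := by
    rintro _ ⟨g, f, hg, hf, rfl⟩
    refine ⟨-g, fun i => -f (shift (-g) i), fun c hc => ?_, fun c hc y => ?_, ?_⟩
    · simp [hg c hc]
    · simp only [shift_inl]; rw [hf c hc, hf c hc (0 + _)]
    · rw [mono_inv, shift_neg]
      exact mono_congr rfl (fun i => by simp) fun i => by simp

/-- The shear `(c, y, x) ↦ (c, y + b x, x)` on the squares in `O`. -/
def shearY (p s r : ℕ) [Fact p.Prime] (O : Finset C) (b : ZMod p) :
    Perm (Pts (Pts C p s) p r) where
  toFun
    | .inl (.inl (c, y), x) => .inl (.inl (c, if c ∈ O then y + b * x else y), x)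
    | q => q
  invFun
    | .inl (.inl (c, y), x) => .inl (.inl (c, if c ∈ O then y - b * x else y), x)
    | q => q
  left_inv := by
    rintro (⟨⟨c, y⟩ | w, x⟩ | v) <;> simp
    split_ifs <;> simp
  right_inv := by
    rintro (⟨⟨c, y⟩ | w, x⟩ | v) <;> simp
    split_ifs <;> simp

@[simp] theorem shearY_inl (O : Finset C) (b : ZMod p) (c : C) (y x : ZMod p) :
    shearY p s r O b (.inl (.inl (c, y), x)) =
      .inl (.inl (c, if c ∈ O then y + b * x else y), x) := rfl

@[simp] theorem shearY_inl_inr (O : Finset C) (b : ZMod p) (w : Fin s) (x : ZMod p) :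
    shearY p s r O b (.inl (.inr w, x)) = .inl (.inr w, x) := rfl

@[simp] theorem shearY_inr (O : Finset C) (b : ZMod p) (v : Fin r) :
    shearY p s r O b (.inr v) = .inr v := rfl

/-- The exponents of the shear `(c, y, x) ↦ (c, y, x + b y)`. -/
def shearX (O : Finset C) (b : ZMod p) : Pts C p s → ZMod p
  | .inl (c, y) => if c ∈ O then b * y else 0
  | .inr _ => 0

theorem shearY_add (O : Finset C) (b b' : ZMod p) :
    shearY p s r O (b + b') = shearY p s r O b * shearY p s r O b' := by
  refine Equiv.ext ?_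
  rintro (⟨⟨c, y⟩ | w, x⟩ | v) <;> simp [Perm.mul_apply]
  split_ifs <;> ring

theorem shearY_pow_prime (O : Finset C) (b : ZMod p) : shearY p s r O b ^ p = 1 := by
  have h : ∀ m : ℕ, shearY p s r O b ^ m = shearY p s r O ((m : ZMod p) * b) := by
    intro m
    induction m with
    | zero =>
      refine Equiv.ext ?_
      rintro (⟨⟨c, y⟩ | w, x⟩ | v) <;> simp
    | succ m ih => rw [pow_succ, ih, ← shearY_add, Nat.cast_succ, add_mul, one_mul]
  rw [h, ZMod.natCast_self, zero_mul]
  refine Equiv.ext ?_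
  rintro (⟨⟨c, y⟩ | w, x⟩ | v) <;> simp

theorem sign_of_pow_prime {X : Type*} [Fintype X] [DecidableEq X] (hp : p ≠ 2) {z : Perm X}
    (hz : z ^ p = 1) : Perm.sign z = 1 := by
  rcases Int.units_eq_one_or (Perm.sign z) with h | h
  · exact h
  · have := congrArg Perm.sign hz
    rw [map_pow, h, ((Fact.out : p.Prime).odd_of_ne_two hp).neg_one_pow, map_one] at this
    exact absurd this (by decide)

theorem sqGroup_le (O : Finset C) (Q : Subgroup (Perm C)) :
    sqGroup p s r O ≤ wreath r p (wreath s p Q) := by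
  rintro _ ⟨g, f, -, -, rfl⟩
  exact ⟨shift g, shift_mem_wreath Q g, f, rfl⟩

theorem sqGroup_sign (hp : p ≠ 2) (O : Finset C) {z : Perm (Pts (Pts C p s) p r)}
    (hz : z ∈ sqGroup p s r O) : Perm.sign z = 1 := by
  obtain ⟨g, f, -, -, rfl⟩ := hz
  rw [mono_eq_blk_shift, map_mul, sign_blk, sign_shift_odd hp, sign_shift_odd hp, one_pow, mul_one]

theorem shearY_conj_mem (O : Finset C) (b : ZMod p) {z : Perm (Pts (Pts C p s) p r)}
    (hz : z ∈ sqGroup p s r O) :
    shearY p s r O b * z * (shearY p s r O b)⁻¹ ∈ sqGroup p s r O := by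
  obtain ⟨g, f, hg, hf, rfl⟩ := hz
  refine ⟨fun c => if c ∈ O then g c + b * f (.inl (c, 0)) else 0, f, fun c hc => if_neg hc, hf, ?_⟩
  rw [mul_inv_eq_iff_eq_mul]
  refine Equiv.ext ?_
  rintro (⟨⟨c, y⟩ | w, x⟩ | v)
  · by_cases hc : c ∈ O
    · simp [Perm.mul_apply, hc, hf c hc y, hf c hc (y + b * x)]
      ring
    · simp [Perm.mul_apply, hc, hg c hc]
  · simp [Perm.mul_apply]
  · simp [Perm.mul_apply]

theorem shearX_conj_mem (O : Finset C) (b : ZMod p) {z : Perm (Pts (Pts C p s) p r)}
    (hz : z ∈ sqGroup p s r O) :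
    shift (shearX O b) * z * (shift (shearX O b))⁻¹ ∈ sqGroup p s r O := by
  obtain ⟨g, f, hg, hf, rfl⟩ := hz
  refine ⟨g, fun i => match i with
    | .inl (c, y) => f (.inl (c, y)) + (if c ∈ O then b * g c else 0)
    | .inr w => f (.inr w), hg, fun c hc y => ?_, ?_⟩
  · simp [hc, hf c hc y]
  rw [mul_inv_eq_iff_eq_mul]
  refine Equiv.ext ?_
  rintro (⟨⟨c, y⟩ | w, x⟩ | v)
  · by_cases hc : c ∈ O
    · simp [Perm.mul_apply, shearX, hc]
      ring
    · simp [Perm.mul_apply, shearX, hc]
  · simp [Perm.mul_apply, shearX]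
  · simp [Perm.mul_apply]

theorem sqGroup_centralizer (hr : r ≤ 1) (O : Finset C) {z : Perm (Pts (Pts C p s) p r)}
    (hz : ∀ m ∈ sqGroup p s r O, z * m = m * z) : z ∈ sqGroup p s r O := by
  classical
  -- translation of a block outside `O`
  have hone : ∀ i : Pts C p s, (∀ c ∈ O, ∀ y, i ≠ .inl (c, y)) →
      shift (r := r) (Pi.single i (1 : ZMod p)) ∈ sqGroup p s r O := fun i hi =>
    ⟨0, Pi.single i 1, fun _ _ => rfl, fun c hc y => by
      simp [(hi c hc y).symm, (hi c hc 0).symm], by rw [shift_zero]; rfl⟩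
  have hblock : ∀ i : Pts C p s, (∀ c ∈ O, ∀ y, i ≠ .inl (c, y)) →
      ∃ d, ∀ x, z (.inl (i, x)) = .inl (i, x + d) := by
    intro i hi
    have hc := hz _ (hone i hi)
    have hm := moved_commute hc ((shift_ne_iff (r := r) (Pi.single i (1 : ZMod p)) i 0).2 (by simp))
    rcases hv : z (.inl (i, 0)) with ⟨j, d⟩ | v
    · rw [hv, shift_ne_iff] at hm
      obtain rfl : j = i := by
        by_contra h
        exact hm (by simp [h])
      exact ⟨d, translation_of_commute hc (by simp) hv⟩
    · rw [hv] at hm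
      exact absurd (shift_inr _ v) hm
  have hsquare : ∀ c ∈ O, ∃ g d : ZMod p, ∀ y x,
      z (.inl (.inl (c, y), x)) = .inl (.inl (c, y + g), x + d) := by
    intro c hc
    set fR : Pts C p s → ZMod p := fun i => match i with
      | .inl (c', _) => if c' = c then 1 else 0
      | .inr _ => 0
    have hR : shift (r := r) fR ∈ sqGroup p s r O :=
      ⟨0, fR, fun _ _ => rfl, fun _ _ _ => rfl, by rw [shift_zero]; rfl⟩
    have hV : ∀ y : ZMod p, mono (r := r) (shift (dlt c y) : Perm (Pts C p s)) 1 0 ∈ sqGroup p s r O :=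
      fun y => ⟨dlt c y, 0, fun c' hc' => by
        have : c' ≠ c := fun h => hc' (h ▸ hc)
        simp [dlt, this], fun _ _ _ => rfl, rfl⟩
    have hc0 := hz _ hR
    have hm := moved_commute hc0 ((shift_ne_iff (r := r) fR (.inl (c, 0)) 0).2 (by simp [fR]))
    rcases hv : z (.inl (.inl (c, 0), 0)) with ⟨j, d⟩ | v
    swap
    · rw [hv] at hm
      exact absurd (shift_inr _ v) hm
    rw [hv, shift_ne_iff] at hm
    obtain ⟨g, rfl⟩ : ∃ g, j = .inl (c, g) := by
      rcases j with ⟨c', g⟩ | w
      · refine ⟨g, ?_⟩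
        by_contra h
        refine hm ?_
        simp only [fR]
        rw [if_neg]
        rintro rfl
        exact h rfl
      · exact absurd rfl hm
    refine ⟨g, d, fun y x => ?_⟩
    have hy : ∀ x, z (.inl (.inl (c, 0), x)) = .inl (.inl (c, g), x + d) := by
      intro x
      have h := congrArg (fun h : Perm (Pts (Pts C p s) p r) => h (.inl (.inl (c, 0), 0)))
        ((Commute.pow_right hc0 x.val).eq)
      simp only [Perm.mul_apply, shift_pow, shift_inl, hv, zero_add, Pi.mul_apply,
        Pi.natCast_apply, nsmul_eq_mul, fR, if_true, mul_one, ZMod.natCast_zmod_val] at h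
      rw [h, add_comm]
    have h := congrArg (fun h : Perm (Pts (Pts C p s) p r) => h (.inl (.inl (c, 0), x))) (hz _ (hV y))
    simp only [Perm.mul_apply, mono_inl, shift_inl, hy, Pi.one_apply, Units.val_one, one_mul,
      Pi.zero_apply, add_zero, dlt, Pi.single_eq_same, zero_add] at h
    rw [h, add_comm g y]
  choose db hdb using hblock
  choose gq dq hsq using hsquare
  refine ⟨fun c => if h : c ∈ O then gq c h else 0, fun i => match i with
    | .inl (c, y) => if h : c ∈ O then dq c h
        else db (.inl (c, y)) (fun c' hc' y' e => h (by cases e; exact hc'))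
    | .inr w => db (.inr w) (fun c' _ y' e => Sum.inr_ne_inl e),
    fun c hc => dif_neg hc, fun c hc y => by simp [hc], Equiv.ext fun q => ?_⟩
  have hI : ∀ i x, ∃ j x', z (.inl (i, x)) = .inl (j, x') := by
    intro i x
    by_cases hi : ∃ c ∈ O, ∃ y, i = .inl (c, y)
    · obtain ⟨c, hc, y, rfl⟩ := hi
      exact ⟨_, _, hsq c hc y x⟩
    · exact ⟨_, _, hdb i (fun c hc y e => hi ⟨c, hc, y, e⟩) x⟩
  rcases q with ⟨⟨c, y⟩ | w, x⟩ | v
  · by_cases hc : c ∈ O
    · rw [hsq c hc]; simp [hc]
    · rw [hdb _ (fun c' hc' y' e => hc (by cases e; exact hc'))]; simp [hc]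
  · rw [hdb _ (fun c' _ y' e => Sum.inr_ne_inl e)]; simp
  · rw [mono_inr]
    rcases hv : z (.inr v) with ⟨j, x⟩ | v'
    · -- every point of a block is the image of such a point
      choose f₁ f₂ hf using hI
      have hinj : Function.Injective (fun q : Pts C p s × ZMod p => (f₁ q.1 q.2, f₂ q.1 q.2)) :=
        fun a b h => by
          have : z (.inl a) = z (.inl b) := by
            rw [show a = (a.1, a.2) from rfl, show b = (b.1, b.2) from rfl, hf, hf]
            exact congrArg Sum.inl h
          exact Sum.inl_injective (z.injective this)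
      obtain ⟨q, hq⟩ := Finite.surjective_of_injective hinj (j, x)
      have : z (.inr v) = z (.inl q) := by
        rw [show q = (q.1, q.2) from rfl, hf, hv]
        exact congrArg Sum.inl hq.symm
      exact absurd (z.injective this) Sum.inr_ne_inl
    · have : v' = v := Fin.ext (by omega)
      rw [this]

/-- The block part of the torus element. -/
def torusBlk (p s : ℕ) [Fact p.Prime] (O : Finset C) (a : (ZMod p)ˣ) : Perm (Pts C p s) :=
  scale fun c => if c ∈ O then a⁻¹ else 1

/-- The scalars of the torus element. -/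
def torusScale (p s : ℕ) (O : Finset C) (a : (ZMod p)ˣ) : Pts C p s → (ZMod p)ˣ
  | .inl (c, _) => if c ∈ O then a else 1
  | .inr _ => 1

/-- The torus element. -/
def torus (p s r : ℕ) [Fact p.Prime] (O : Finset C) (a : (ZMod p)ˣ) :
    Perm (Pts (Pts C p s) p r) :=
  mono (torusBlk p s O a) (torusScale p s O a) 0

theorem torus_prod (O : Finset C) {j : ℕ} (hO : O.card = p ^ j) (a : (ZMod p)ˣ) :
    ∏ i, torusScale p s O a i = a := by
  have hp : a ^ p = a := by
    have h : (a : ZMod p) ^ p = a := ZMod.pow_card _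
    exact Units.ext (by rw [Units.val_pow_eq_pow_val, h])
  rw [Fintype.prod_sum_type, Fintype.prod_prod_type]
  simp only [torusScale, Finset.prod_const_one, mul_one, Finset.prod_const, Finset.card_univ,
    ZMod.card, Finset.prod_pow, Finset.prod_ite, one_pow]
  rw [Finset.filter_univ_mem, hO, ← pow_mul, mul_comm, ← pow_succ']
  clear hO
  induction j + 1 with
  | zero => simp
  | succ m ih => rw [pow_succ, pow_mul, ih, hp]

theorem torus_word (O : Finset C) (a : (ZMod p)ˣ) :
    torus p s r O a = shift (shearX O (a : ZMod p)) * shearY p s r O (-((a⁻¹ : (ZMod p)ˣ) : ZMod p)) *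
      shift (shearX O (a : ZMod p)) * shift (shearX O (-1)) * shearY p s r O 1 *
      shift (shearX O (-1)) := by
  have ha : (a : ZMod p) * ((a⁻¹ : (ZMod p)ˣ) : ZMod p) = 1 := by rw [← Units.val_mul]; simp
  refine Equiv.ext ?_
  rintro (⟨⟨c, y⟩ | w, x⟩ | v)
  · by_cases hc : c ∈ O
    · simp only [torus, torusBlk, torusScale, scale, shearX, Perm.mul_apply, mono_inl, shift_inl,
        shearY_inl, if_pos hc, Pi.zero_apply, Perm.one_apply, add_zero, Sum.inl.injEq, Prod.mk.injEq,
        true_and]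
      constructor
      · linear_combination x * ha
      · linear_combination ((a : ZMod p) * x - y) * ha
    · simp only [torus, torusBlk, torusScale, scale, shearX, Perm.mul_apply, mono_inl, shift_inl,
        shearY_inl, if_neg hc, Pi.zero_apply, Perm.one_apply, Units.val_one, one_mul, add_zero]
  · simp only [torus, torusBlk, torusScale, scale, shearX, Perm.mul_apply, mono_inl, mono_inr,
      shift_inl, shearY_inl_inr, Pi.zero_apply, Units.val_one, one_mul, add_zero]
  · simp only [torus, Perm.mul_apply, mono_inr, shift_inr, shearY_inr]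

theorem torus_normalizes {Q : Subgroup (Perm C)} (O : Finset C)
    (hO : ∀ σ ∈ Q, ∀ c, σ c ∈ O ↔ c ∈ O) (a : (ZMod p)ˣ) {z : Perm (Pts (Pts C p s) p r)}
    (hz : z ∈ wreath r p (wreath s p Q)) :
    torus p s r O a * z * (torus p s r O a)⁻¹ ∈ wreath r p (wreath s p Q) := by
  obtain ⟨_, ⟨σ, hσ, g, rfl⟩, f, rfl⟩ := hz
  set g' : C → ZMod p := fun c => if c ∈ O then ((a⁻¹ : (ZMod p)ˣ) : ZMod p) * g c else g c
  have hτ : torusBlk p s O a * mono σ 1 g = mono σ 1 g' * torusBlk p s O a := by
    simp only [torusBlk, scale, mono_mul]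
    refine mono_congr (by simp) (fun c => ?_) fun c => ?_
    · simp [hO σ hσ c]
    · simp only [hO σ hσ c, g', Perm.one_apply, Pi.one_apply, Units.val_one, one_mul, Pi.zero_apply,
        add_zero, zero_add]
      by_cases hc : c ∈ O
      · rw [if_pos hc, if_pos hc]
      · rw [if_neg hc, if_neg hc, Units.val_one, one_mul]
  refine ⟨mono σ 1 g', ⟨σ, hσ, g', rfl⟩,
    fun i => (torusScale p s O a ((torusBlk p s O a)⁻¹ i) : ZMod p) * f ((torusBlk p s O a)⁻¹ i), ?_⟩
  rw [mul_inv_eq_iff_eq_mul, torus, mono_mul, mono_mul]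
  refine mono_congr hτ (fun i => ?_) fun i => ?_
  · rcases i with ⟨c, y⟩ | w
    · simp [torusScale, hO σ hσ c]
    · simp [torusScale]
  · simp only [show (torusBlk p s O a)⁻¹ (torusBlk p s O a i) = i from
      (torusBlk p s O a).symm_apply_apply i]
    rcases i with ⟨c, y⟩ | w
    · simp [torusScale, hO σ hσ c]
    · simp [torusScale]

end CfsgLib.Fusion.Alt
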