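import Cfsg.Agent.Lib.Fusion.Alt.Mono

/-!
# Sylow subgroups of symmetric groups
-/

set_option autoImplicit false

open Equiv

namespace CfsgLib.Fusion.Alt

variable {B : Type*} {p r : ℕ}

/-- The block translations by functions and block permutations from `P`. -/
def wreath (r : ℕ) (p : ℕ) (P : Subgroup (Perm B)) : Subgroup (Perm (Pts B p r)) where
  carrier := {g | ∃ τ ∈ P, ∃ f : B → ZMod p, g = mono τ 1 f}
  one_mem' := ⟨1, P.one_mem, 0, mono_one.symm⟩
  mul_mem' := by
    rintro _ _ ⟨τ, hτ, f, rfl⟩ ⟨σ, hσ, g, rfl⟩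
    refine ⟨τ * σ, P.mul_mem hτ hσ, fun i => g i + f (σ i), ?_⟩
    rw [mono_mul]
    congr 1 <;> funext i <;> simp
  inv_mem' := by
    rintro _ ⟨τ, hτ, f, rfl⟩
    refine ⟨τ⁻¹, P.inv_mem hτ, fun i => -f (τ⁻¹ i), ?_⟩
    rw [mono_inv]
    congr 1 <;> funext i <;> simp

theorem mem_wreath {P : Subgroup (Perm B)} {g : Perm (Pts B p r)} :
    g ∈ wreath r p P ↔ ∃ τ ∈ P, ∃ f : B → ZMod p, g = mono τ 1 f := Iff.rfl

theorem blk_mem_wreath {P : Subgroup (Perm B)} {τ : Perm B} (hτ : τ ∈ P) :
    blk (p := p) (r := r) τ ∈ wreath r p P := ⟨τ, hτ, 0, rfl⟩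

theorem shift_mem_wreath (P : Subgroup (Perm B)) (f : B → ZMod p) :
    shift (r := r) f ∈ wreath r p P := ⟨1, P.one_mem, f, rfl⟩

theorem mono_eq_blk_shift (τ : Perm B) (f : B → ZMod p) :
    mono (r := r) τ 1 f = blk τ * shift f := by
  simp only [blk, shift, mono_mul]
  congr 1 <;> funext i <;> simp

theorem shift_pow (f : B → ZMod p) : ∀ m : ℕ, shift (r := r) f ^ m = shift (m • f)
  | 0 => by rw [pow_zero, zero_smul, shift_zero]
  | m + 1 => by rw [pow_succ, shift_pow f m, ← shift_add, add_smul, one_smul]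

theorem shift_pow_prime (f : B → ZMod p) : shift (r := r) f ^ p = 1 := by
  rw [shift_pow, ← shift_zero]
  congr 1
  funext i
  simp

theorem blk_pow (τ : Perm B) (m : ℕ) : blk (p := p) (r := r) τ ^ m = blk (τ ^ m) :=
  (map_pow (blkHom (p := p) (r := r)) τ m).symm

theorem card_wreath (P : Subgroup (Perm B)) [Fintype B] :
    Nat.card (wreath r p P) = Nat.card P * p ^ Fintype.card B := by
  have : Nat.card (P × (B → ZMod p)) = Nat.card P * p ^ Fintype.card B := by
    rw [Nat.card_prod, Nat.card_fun, Nat.card_zmod, Nat.card_eq_fintype_card (α := B)]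
  rw [← this]
  refine (Nat.card_congr (Equiv.ofBijective
    (fun q : P × (B → ZMod p) => (⟨mono q.1 1 q.2, q.1, q.1.2, q.2, rfl⟩ : wreath r p P))
    ⟨fun a b h => ?_, ?_⟩)).symm
  · obtain ⟨h1, -, h2⟩ := mono_inj (congrArg Subtype.val h)
    exact Prod.ext (Subtype.ext h1) h2
  · rintro ⟨_, τ, hτ, f, rfl⟩
    exact ⟨(⟨τ, hτ⟩, f), rfl⟩

variable [Fintype B] [DecidableEq B] [Fact p.Prime]

theorem exists_sylow_wreath (hr : r < p) (P : Sylow p (Perm B)) :
    ∃ S : Sylow p (Perm (Pts B p r)),
      (S : Subgroup (Perm (Pts B p r))) = wreath r p (P : Subgroup (Perm B)) := by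
  refine ⟨Sylow.ofCard (wreath r p (P : Subgroup (Perm B))) ?_, rfl⟩
  show Nat.card (wreath r p (P : Subgroup (Perm B))) = _
  rw [card_wreath, Sylow.card_eq_multiplicity, Nat.card_eq_fintype_card, Nat.card_eq_fintype_card,
    Fintype.card_perm, Fintype.card_perm, ← pow_add]
  congr 1
  simp only [Fintype.card_sum, Fintype.card_prod, ZMod.card, Fintype.card_fin]
  rw [Nat.factorization_def _ Fact.out, Nat.factorization_def _ Fact.out, mul_comm,
    padicValNat_factorial_mul_add _ hr, padicValNat_factorial_mul]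

theorem wreath_generated {P : Subgroup (Perm B)}
    (hP : P ≤ Subgroup.closure {τ | τ ∈ P ∧ τ ^ p = 1}) :
    wreath r p P ≤ Subgroup.closure {g | g ∈ wreath r p P ∧ g ^ p = 1} := by
  rintro _ ⟨τ, hτ, f, rfl⟩
  rw [mono_eq_blk_shift]
  refine Subgroup.mul_mem _ ?_ (Subgroup.subset_closure ⟨shift_mem_wreath P f, shift_pow_prime f⟩)
  have hle : Subgroup.closure {τ | τ ∈ P ∧ τ ^ p = 1} ≤
      (Subgroup.closure {g : Perm (Pts B p r) | g ∈ wreath r p P ∧ g ^ p = 1}).comap
        (blkHom (p := p) (r := r)) := by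
    refine (Subgroup.closure_le _).2 fun σ hσ => Subgroup.subset_closure ⟨blk_mem_wreath hσ.1, ?_⟩
    rw [blkHom_apply, blk_pow, hσ.2, blk_one]
  exact hle (hP hτ)

end CfsgLib.Fusion.Alt

namespace CfsgLib.Fusion.Alt

/-- A generation property carried along a homomorphism. -/
theorem generated_map {G H : Type*} [Group G] [Group H] (f : G →* H) {K : Subgroup G} {p : ℕ}
    (hK : K ≤ Subgroup.closure {x | x ∈ K ∧ x ^ p = 1}) :
    K.map f ≤ Subgroup.closure {x | x ∈ K.map f ∧ x ^ p = 1} := by
  refine (Subgroup.map_mono hK).trans ?_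
  rw [MonoidHom.map_closure]
  refine Subgroup.closure_mono ?_
  rintro _ ⟨x, ⟨hx, hxp⟩, rfl⟩
  exact ⟨⟨x, hx, rfl⟩, by rw [← map_pow, hxp, map_one]⟩

/-- Sylow subgroups of finite symmetric groups are generated by elements of order `p`. -/
theorem sylow_perm_generated {p : ℕ} [Fact p.Prime] : ∀ (B : Type) [Fintype B] [DecidableEq B]
    (P : Sylow p (Perm B)),
    (P : Subgroup (Perm B)) ≤ Subgroup.closure {x | x ∈ (P : Subgroup (Perm B)) ∧ x ^ p = 1} := by
  classical
  intro B _ _
  induction hm : Fintype.card B using Nat.strong_induction_on generalizing B with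
  | _ m ih =>
    intro P
    by_cases hsmall : m < p
    · have hbot : (P : Subgroup (Perm B)) = ⊥ := by
        rw [← Subgroup.card_eq_one, Sylow.card_eq_multiplicity, Nat.card_eq_fintype_card,
          Fintype.card_perm, hm, Nat.factorization_eq_zero_of_not_dvd, pow_zero]
        rw [(Fact.out : p.Prime).dvd_factorial]
        exact not_le.2 hsmall
      rw [hbot]
      exact bot_le
    · have hp := (Fact.out : p.Prime)
      set k := m / p
      set r := m % p
      have hr : r < p := Nat.mod_lt _ hp.pos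
      have hkm : k < m := Nat.div_lt_self (by have := hp.two_le; omega) hp.one_lt
      obtain ⟨S₀, hS₀⟩ := exists_sylow_wreath (B := Fin k) hr (default : Sylow p (Perm (Fin k)))
      have hgen := wreath_generated (r := r) (ih k hkm (Fin k) (Fintype.card_fin k)
        (default : Sylow p (Perm (Fin k))))
      have hcard : Fintype.card (Pts (Fin k) p r) = Fintype.card B := by
        simp [Fintype.card_sum, Fintype.card_prod, ZMod.card, hm, k, r, Nat.div_add_mod' m p]
      set e := (Fintype.equivOfCardEq hcard).permCongrHom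
      let S₁ : Sylow p (Perm B) := S₀.mapSurjective (f := e.toMonoidHom) e.surjective
      obtain ⟨g, rfl⟩ := MulAction.exists_smul_eq (Perm B) S₁ P
      have h1 : ((g • S₁ : Sylow p (Perm B)) : Subgroup (Perm B)) =
          ((S₁ : Subgroup (Perm B))).map (MulAut.conj g).toMonoidHom := rfl
      rw [h1]
      refine generated_map _ ?_
      rw [show (S₁ : Subgroup (Perm B)) = (S₀ : Subgroup _).map e.toMonoidHom from rfl, hS₀]
      exact generated_map _ hgen

end CfsgLib.Fusion.Alt
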